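import Groth.Agent.Lib.Goodman.Local
import Groth.Agent.Lib.HodgeIndex.Walls
import Groth.Agent.Lib.Ref1.Divisor
import Groth.Agent.Lib.BlowUp.EffCartier
import Groth.Agent.Lib.Ref1.Unit
import Groth.Agent.Lib.FacDiv.Invertible
import Groth.Agent.Lib.OmegaBC.IdealStalk

/-!
# Effective divisors supported on given curves, and rational multiples of their canonical sections
-/

set_option autoImplicit false
set_option backward.isDefEq.respectTransparency false
set_option linter.all false

universe u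

open CategoryTheory CategoryTheory.Limits AlgebraicGeometry TopologicalSpace Opposite

noncomputable section

namespace GrothLib.Goodman

open GrothLib.Ref1 (Gen)
open GrothLib.QCoh (stalkLin)
open GrothLib.WeakAss (primeAt)
open GrothLib.OmegaBC (sval)

variable {X : Scheme.{u}}

theorem unitStalk_eq_ouni (x : X) (a : X.presheaf.stalk x) : HomSh.unitStalk x a = OmegaBC.ouni x a := rfl

theorem stalkLin_idealModι (I : X.IdealSheafData) (x : X) (v : (OX.stalk x).obj (ClSub.idealMod I)) :
    stalkLin (ClSub.idealModι I) x v = HomSh.unitStalk x (sval I x v) := by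
  rw [unitStalk_eq_ouni]
  exact ((OmegaBC.ouni x).apply_symm_apply _).symm

/-- The stalk of an ideal sheaf. -/
def st (I : X.IdealSheafData) (x : X) : Ideal (X.presheaf.stalk x) := LinearMap.range (sval I x)

theorem st_eq (I : X.IdealSheafData) {x : X} (U : X.affineOpens) (hx : x ∈ U.1) :
    st I x = (I.ideal U).map (X.presheaf.germ U.1 x hx).hom := OmegaBC.range_sval I x U hx

theorem st_mul (I J : X.IdealSheafData) (x : X) : st (I * J) x = st I x * st J x := by
  obtain ⟨V, hV, hxV, -⟩ := exists_isAffineOpen_mem_and_subset (show x ∈ (⊤ : X.Opens) from trivial)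
  rw [st_eq _ ⟨V, hV⟩ hxV, st_eq _ ⟨V, hV⟩ hxV, st_eq _ ⟨V, hV⟩ hxV, Scheme.IdealSheafData.ideal_mul, Pi.mul_apply,
    Ideal.map_mul]

theorem st_top (x : X) : st (⊤ : X.IdealSheafData) x = ⊤ := by
  obtain ⟨V, hV, hxV, -⟩ := exists_isAffineOpen_mem_and_subset (show x ∈ (⊤ : X.Opens) from trivial)
  rw [st_eq _ ⟨V, hV⟩ hxV, Scheme.IdealSheafData.ideal_top, Pi.top_apply, Ideal.map_top]

theorem st_pow (I : X.IdealSheafData) (x : X) : ∀ m : ℕ, st (I ^ m) x = st I x ^ m
  | 0 => by rw [pow_zero, pow_zero, Scheme.IdealSheafData.one_eq_top, st_top, Ideal.one_eq_top]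
  | m + 1 => by rw [pow_succ, pow_succ, st_mul, st_pow I x m]

theorem st_prod {ι : Type*} (s : Finset ι) (I : ι → X.IdealSheafData) (x : X) :
    st (∏ i ∈ s, I i) x = ∏ i ∈ s, st (I i) x := by
  classical
  induction s using Finset.induction with
  | empty => rw [Finset.prod_empty, Finset.prod_empty, Scheme.IdealSheafData.one_eq_top, st_top, Ideal.one_eq_top]
  | insert j s hj ih => rw [Finset.prod_insert hj, Finset.prod_insert hj, st_mul, ih]

theorem st_curve_self (z : X) :
    st (Scheme.IdealSheafData.vanishingIdeal (⟨closure ({z} : Set X), isClosed_closure⟩ : Closeds X)) z =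
      IsLocalRing.maximalIdeal (X.presheaf.stalk z) := by
  obtain ⟨V, hV, hzV, -⟩ := exists_isAffineOpen_mem_and_subset (show z ∈ (⊤ : X.Opens) from trivial)
  rw [st_eq _ ⟨V, hV⟩ hzV]
  have hI : (Scheme.IdealSheafData.vanishingIdeal (⟨closure ({z} : Set X), isClosed_closure⟩ : Closeds X)).ideal
      ⟨V, hV⟩ = primeAt z hzV := by
    ext a
    rw [QCoh.mem_vanishingIdeal_iff]
    simp only [primeAt, Ideal.mem_comap]
    refine ⟨fun h hu => h z hzV (subset_closure rfl) ((Scheme.mem_basicOpen _ a z hzV).2 hu), fun h y hyV hy hyD => ?_⟩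
    exact h ((Scheme.mem_basicOpen _ a z hzV).1
      ((specializes_iff_mem_closure.2 hy).mem_open (X.basicOpen a).2 hyD))
  rw [hI]
  letI := TopCat.Presheaf.algebra_section_stalk X.presheaf (⟨z, hzV⟩ : V)
  haveI := hV.isLocalization_stalk ⟨z, hzV⟩
  rw [show primeAt z hzV = (hV.primeIdealOf ⟨z, hzV⟩).asIdeal from
    congrArg PrimeSpectrum.asIdeal (QCoh.primeAt_eq_primeIdealOf hV hzV)]
  exact IsLocalization.AtPrime.map_eq_maximalIdeal (hV.primeIdealOf ⟨z, hzV⟩).asIdeal (X.presheaf.stalk z)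

theorem st_of_notMem (I : X.IdealSheafData) {x : X} (hx : x ∉ (I.support : Set X)) : st I x = ⊤ := by
  refine top_le_iff.1 fun a _ => ?_
  obtain ⟨v, hv⟩ := (HodgeIndex.stalk_bijective_idealModι I hx).2 (HomSh.unitStalk x a)
  exact ⟨v, (HomSh.unitStalk x).injective ((stalkLin_idealModι I x v).symm.trans hv)⟩

variable [IsIntegral X] [IsLocallyNoetherian X]

/-- Maps of an invertible ideal to `O` given by rational functions. -/
theorem exists_hom_rational (hX : Pi1.IsNormalScheme X) {M : X.Modules}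
    (ι : M ⟶ Coh.structureModule X) (hη : Function.Bijective (stalkLin ι (genericPoint X))) (n : X → ℕ)
    (h₁ : ∀ x : X, ringKrullDim (X.presheaf.stalk x) = 1 → ∀ v, ∃ a ∈ IsLocalRing.maximalIdeal (X.presheaf.stalk x) ^ n x,
      stalkLin ι x v = HomSh.unitStalk x a)
    (h₂ : ∀ x : X, ringKrullDim (X.presheaf.stalk x) = 1 → ∀ a ∈ IsLocalRing.maximalIdeal (X.presheaf.stalk x) ^ n x,
      ∃ v, stalkLin ι x v = HomSh.unitStalk x a)
    (u : X.functionField) (hu : u ≠ 0)
    (hcond : ∀ x : X, ringKrullDim (X.presheaf.stalk x) = 1 →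
      ∀ a ∈ IsLocalRing.maximalIdeal (X.presheaf.stalk x) ^ n x, ∃ b, pf x b = u * pf x a) :
    ∃ ψ : M ⟶ Coh.structureModule X,
      ∀ x : X, ringKrullDim (X.presheaf.stalk x) = 1 → ∀ ϖ : X.presheaf.stalk x, Irreducible ϖ →
        ∀ c, pf x c = u * pf x (ϖ ^ n x) → (Function.Surjective (stalkLin ψ x) ↔ IsUnit c) := by
  have hO : Coh.IsCoh (Coh.structureModule X) := HomSh.isCoh_structureModule X
  haveI := hO.1
  have hOR := HomSh.hasRel_of_isCoh hO
  have hOref : RefHull.IsReflexive (Coh.structureModule X) :=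
    (HomSh.isReflexive_iff hOR).2 fun x => FacDiv.isReflexiveAt_of_gen (Ref1.gen_unitStalk x)
  let T : RefHull.StalkHom M (Coh.structureModule X) (genericPoint X) :=
    (HomSh.unitStalk (genericPoint X)).toLinearMap ∘ₗ (LinearMap.mulLeft (X.presheaf.stalk (genericPoint X)) u) ∘ₗ
      (HomSh.unitStalk (genericPoint X)).symm.toLinearMap ∘ₗ stalkLin ι (genericPoint X)
  have hT : ∀ (x : X) (v : M.presheaf.stalk x) (a : X.presheaf.stalk x), stalkLin ι x v = HomSh.unitStalk x a →
      T (Ref1.sp M (Ref1.hη x) v) = HomSh.unitStalk (genericPoint X) (u * pf x a) := by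
    intro x v a h
    have h' : stalkLin ι (genericPoint X) (Ref1.sp M (Ref1.hη x) v) =
        HomSh.unitStalk (genericPoint X) (pf x a) := by
      refine (Ref1.stalkMapₗ_sp M (φ := ι) (h := Ref1.hη x) v).trans ?_
      rw [show RefHull.stalkMapₗ ι x v = HomSh.unitStalk x a from h, Ref1.sp_unitStalk]
      rfl
    show HomSh.unitStalk (genericPoint X) (u * (HomSh.unitStalk (genericPoint X)).symm (stalkLin ι _ _)) = _
    rw [h', LinearEquiv.symm_apply_apply]
  obtain ⟨ψ, hψ⟩ := Ref1.exists_hom_of_dim_one hX (G := M) hOR hOref T fun x hx v => by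
    obtain ⟨a, ha, hv⟩ := h₁ x hx v
    obtain ⟨c, hc⟩ := hcond x hx a ha
    refine ⟨HomSh.unitStalk x c, ?_⟩
    rw [hT x v a hv, Ref1.sp_unitStalk]
    exact congrArg (HomSh.unitStalk (genericPoint X)) hc
  refine ⟨ψ, fun x hx ϖ hϖ c hcu => ?_⟩
  have : IsDomain (X.presheaf.stalk x) := (hX x).1
  have := Ref1.isDiscreteValuationRing_of_dim_one hX hx
  have hm : IsLocalRing.maximalIdeal (X.presheaf.stalk x) ^ n x = Ideal.span {ϖ ^ n x} := by
    rw [hϖ.maximalIdeal_eq, Ideal.span_singleton_pow]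
  have key : ∀ v b, stalkLin ι x v = HomSh.unitStalk x (b * ϖ ^ n x) → stalkLin ψ x v = HomSh.unitStalk x (b * c) := by
    intro v b hv
    obtain ⟨c', hc'⟩ := (HomSh.unitStalk x).surjective (stalkLin ψ x v)
    have h1 := Ref1.stalkMapₗ_sp M (φ := ψ) (h := Ref1.hη x) v
    rw [hψ, hT x v _ hv, show RefHull.stalkMapₗ ψ x v = HomSh.unitStalk x c' from hc'.symm, Ref1.sp_unitStalk,
      (HomSh.unitStalk (genericPoint X)).injective.eq_iff] at h1
    rw [← hc', show c' = b * c from pf_injective x ?_]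
    rw [map_mul, hcu]
    refine h1.symm.trans ?_
    rw [map_mul]
    ring
  refine ⟨fun hs => ?_, fun hu v => ?_⟩
  · obtain ⟨v, hv⟩ := hs (HomSh.unitStalk x 1)
    obtain ⟨a, ha, hva⟩ := h₁ x hx v
    rw [hm, Ideal.mem_span_singleton'] at ha
    obtain ⟨b, rfl⟩ := ha
    rw [key v b hva] at hv
    exact IsUnit.of_mul_eq_one_right b ((HomSh.unitStalk x).injective hv)
  · obtain ⟨a, rfl⟩ := (HomSh.unitStalk x).surjective v
    obtain ⟨w, hw⟩ := h₂ x hx (a * ((hu.unit⁻¹ : _ˣ) : X.presheaf.stalk x) * ϖ ^ n x)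
      (hm ▸ Ideal.mem_span_singleton'.2 ⟨_, rfl⟩)
    exact ⟨w, (key w _ hw).trans (by rw [mul_assoc, IsUnit.val_inv_mul, mul_one])⟩

/-- The effective divisor with given multiplicities on finitely many curves. -/
theorem exists_divisor (T : Finset X) (n : X → ℕ) (hn : ∀ z, n z ≠ 0 ↔ z ∈ T)
    (hT : ∀ z ∈ T, ringKrullDim (X.presheaf.stalk z) = 1)
    (hc : ∀ z ∈ T, _root_.BlowUp.IsEffCartierIdeal
      (Scheme.IdealSheafData.vanishingIdeal (⟨closure ({z} : Set X), isClosed_closure⟩ : Closeds X))) :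
    ∃ I : X.IdealSheafData, _root_.BlowUp.IsEffCartierIdeal I ∧ (I.support : Set X) = ⋃ z ∈ T, closure ({z} : Set X) ∧
      ∀ x : X, ringKrullDim (X.presheaf.stalk x) = 1 → st I x = IsLocalRing.maximalIdeal (X.presheaf.stalk x) ^ n x := by
  classical
  refine ⟨∏ z ∈ T, Scheme.IdealSheafData.vanishingIdeal (⟨closure ({z} : Set X), isClosed_closure⟩ : Closeds X) ^ n z,
    ?_, ?_, fun x hx => ?_⟩
  · refine Finset.prod_induction (M := X.IdealSheafData) _ (fun I => _root_.BlowUp.IsEffCartierIdeal I)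
      (fun I J hI hJ => GrothLib.BlowUp.isEffCartierIdeal_mul hI hJ)
      GrothLib.BlowUp.isEffCartierIdeal_top fun z hz => ?_
    generalize n z = m
    induction m with
    | zero =>
      rw [pow_zero, Scheme.IdealSheafData.one_eq_top]
      exact GrothLib.BlowUp.isEffCartierIdeal_top
    | succ m ih =>
      rw [pow_succ]
      exact GrothLib.BlowUp.isEffCartierIdeal_mul ih (hc z hz)
  · suffices h : ∀ S ⊆ T, ((∏ z ∈ S, Scheme.IdealSheafData.vanishingIdeal
        (⟨closure ({z} : Set X), isClosed_closure⟩ : Closeds X) ^ n z).support : Set X) = ⋃ z ∈ S, closure ({z} : Set X) from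
      h T subset_rfl
    intro S
    induction S using Finset.induction with
    | empty => intro _; simp [Scheme.IdealSheafData.support_top]
    | insert j S hj ih =>
      intro h
      rw [Finset.prod_insert hj, Scheme.IdealSheafData.support_mul, Closeds.coe_sup,
        Scheme.IdealSheafData.support_pow _ _ ((hn j).2 (h (Finset.mem_insert_self _ _))),
        ih fun z hz => h (Finset.mem_insert_of_mem hz), Finset.set_biUnion_insert,
        Scheme.IdealSheafData.coe_support_vanishingIdeal]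
      rfl
  · rw [st_prod]
    have hoff : ∀ z ∈ T, z ≠ x → st (Scheme.IdealSheafData.vanishingIdeal
        (⟨closure ({z} : Set X), isClosed_closure⟩ : Closeds X) ^ n z) x = 1 := fun z hz hne => by
      rw [st_pow, st_of_notMem, ← Ideal.one_eq_top, one_pow]
      rw [Scheme.IdealSheafData.coe_support_vanishingIdeal]
      intro hmem
      refine hne (Ref1.eq_of_specializes_coheight_one (Ref1.coheight_of_dim_one hx)
        (specializes_iff_mem_closure.2 hmem)
        (Ref1.ne_genericPoint_of_coheight_one (Ref1.coheight_of_dim_one (hT z hz))))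
    by_cases hxT : x ∈ T
    · rw [Finset.prod_eq_single x (fun z hz => hoff z hz) (fun h => absurd hxT h), st_pow, st_curve_self]
    · rw [Finset.prod_eq_one fun z hz => hoff z hz fun h => hxT (h ▸ hz),
        Classical.not_not.1 fun h => hxT ((hn x).1 h), pow_zero]

end GrothLib.Goodman
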