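import Groth.Agent.Lib.Goodman.Main
import Groth.Agent.Lib.Ref1.Unit

/-!
# The zero locus of a map of an invertible module to `O` on a surface contains a curve; effective classes
-/

set_option autoImplicit false
set_option backward.isDefEq.respectTransparency false
set_option linter.all false

universe u

open CategoryTheory CategoryTheory.Limits AlgebraicGeometry TopologicalSpace Opposite

noncomputable section

namespace GrothLib.Goodman

open GrothLib.Cube (Pic clsMod)
open GrothLib.HodgeIndex (rep isInv_rep cls_rep deg isect)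
open GrothLib.Snapper (IsTop DimLT mixed phi ptMod)
open GrothLib.QCoh (stalkLin)
open GrothLib.Kodaira (PLe)

variable {X : Scheme.{u}} [IsIntegral X]
variable (k : Type u) [Field k] [X.Over (Spec (CommRingCat.of k))] [IsProper (X ↘ Spec (CommRingCat.of k))]
  (hdim : topologicalKrullDim X = ((2 : ℕ) : WithBot ℕ∞))

include k hdim in
/-- A map to `O` which is not surjective somewhere fails along a curve through that point. -/
theorem exists_curve_not_surjective {J : X.Modules} (hJ : PicF.IsInvertible J) (f : J ⟶ Coh.structureModule X)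
    (hη : Function.Surjective (stalkLin f (genericPoint X))) {x : X} (hx : ¬ Function.Surjective (stalkLin f x)) :
    ∃ y : X, IsTop 1 y ∧ y ⤳ x ∧ ¬ Function.Surjective (stalkLin f y) := by
  haveI := Euler.isNoetherian_of_proper (X := X) k
  obtain ⟨W, e, hxW, he⟩ : ∃ (W : X.Opens) (e : Γ(J, W)), x ∈ W ∧ InvExt.IsGen J W e := by
    obtain ⟨W, e, hxW, he⟩ := InvExt.exists_gen_nhd hJ x
    exact ⟨W, e, hxW, he⟩
  obtain ⟨a, ha⟩ := (HomSh.unitStalk x).surjective (stalkLin f x (J.presheaf.germ W x hxW e))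
  have hval : ∀ (y : X) (h : y ⤳ x) (hy : y ∈ W),
      stalkLin f y (J.presheaf.germ W y hy e) = HomSh.unitStalk y (Ref1.spR h a) := fun y h hy => by
    rw [← Ref1.sp_germ J h hxW e]
    refine (Ref1.stalkMapₗ_sp J (φ := f) (h := h) _).trans ?_
    rw [show RefHull.stalkMapₗ f x (J.presheaf.germ W x hxW e) = HomSh.unitStalk x a from ha.symm,
      Ref1.sp_unitStalk]
  have hiff : ∀ (y : X) (h : y ⤳ x), Function.Surjective (stalkLin f y) ↔ IsUnit (Ref1.spR h a) := fun y h => by
    have hy : y ∈ W := h.mem_open W.2 hxW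
    have ht := Ref1.gen_of_isGen he hy
    refine ⟨fun hs => ?_, fun hu w => ?_⟩
    · obtain ⟨v, hv⟩ := hs (HomSh.unitStalk y 1)
      obtain ⟨b, rfl⟩ := ht.2 v
      dsimp only at hv
      rw [map_smul, hval y h hy, ← map_smul, smul_eq_mul] at hv
      exact IsUnit.of_mul_eq_one_right b ((HomSh.unitStalk y).injective hv)
    · obtain ⟨c, rfl⟩ := (HomSh.unitStalk y).surjective w
      refine ⟨(c * ((hu.unit⁻¹ : _ˣ) : X.presheaf.stalk y)) • J.presheaf.germ W y hy e, ?_⟩
      rw [map_smul, hval y h hy, ← map_smul, smul_eq_mul, mul_assoc, IsUnit.val_inv_mul, mul_one]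
  have ham : a ∈ IsLocalRing.maximalIdeal (X.presheaf.stalk x) := fun hu =>
    hx ((hiff x specializes_rfl).2 (hu.map _))
  have ha0 : a ≠ 0 := fun h0 => by
    have := (hiff _ (Ref1.hη x)).1 hη
    rw [h0, map_zero] at this
    exact not_isUnit_zero (M₀ := X.functionField) this
  obtain ⟨p, hp, -⟩ := Ideal.exists_minimalPrimes_le
    ((Ideal.span_singleton_le_iff_mem _).2 ham : Ideal.span {a} ≤ IsLocalRing.maximalIdeal (X.presheaf.stalk x))
  haveI : p.IsPrime := hp.1.1
  have hap : a ∈ p := (Ideal.span_singleton_le_iff_mem _).1 hp.1.2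
  have hp1 : p.height = 1 := by
    refine le_antisymm (Ideal.height_le_one_of_isPrincipal_of_mem_minimalPrimes (Ideal.span {a}) p hp) ?_
    rw [Order.one_le_iff_ne_zero, Ne, Ideal.height_eq_zero_iff_eq_bot]
    exact fun hb => ha0 (by rw [hb] at hap; exact hap)
  obtain ⟨y, hyx, hy, hyu⟩ := Ref1.exists_point_of_prime x p
  exact ⟨y, isTop_of_dim_one k hdim (by rw [hy, hp1]; rfl), hyx,
    fun hs => (hyu a).1 ((hiff y hyx).1 hs) hap⟩

include hdim in
/-- An effective divisor is positive against classes positive on all curves. -/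
theorem isect_pos_of_curve {J : X.Modules} (hJ : PicF.IsInvertible J) (f : J ⟶ Coh.structureModule X)
    (hf : Function.Bijective (stalkLin f (genericPoint X))) {y : X} (hy : IsTop 1 y)
    (hys : ¬ Function.Surjective (stalkLin f y)) (w : Pic X) (h : ∀ z, IsTop 1 z → 0 < deg k z w) :
    0 < isect k w (clsMod hJ)⁻¹ := by
  haveI := Euler.isNoetherian_of_proper (X := X) k
  have hO : Coh.IsCoh (Coh.structureModule X) := Kleiman.isCoh_O k
  have hJc : Coh.IsCoh J := Euler.isCoh_of_isInvertible hJ
  haveI : Mono f := Euler.mono_of_ne_zero hJ Euler.isInvertible_structure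
    (Kodaira.ne_zero_of_stalk_injective hJ hf.1)
  let Q := cokernel f
  have hQ : Coh.IsCoh Q := QCoh.isCoh_cokernel f hJc hO
  have hQd : DimLT (CohB1.support Q) (1 + 1) :=
    (Snapper.dimLT_of_notMem (Kleiman.isTop_genericPoint hdim).dimLT
      (T := closure {genericPoint X} ∩ CohB1.support Q) Set.inter_subset_left
      fun hm => QCoh.notMem_support_cokernel_of_surjective f hf.2 hm.2).mono fun x hx =>
        ⟨by rw [show closure ({genericPoint X} : Set X) = Set.univ from (genericPoint_spec X).def]; trivial, hx⟩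
  have hQc := QCoh.isClosed_support_of_isCoh hQ
  have hfin := Snapper.finite_support_topTerm (phi k 1 fun _ : Fin 1 => rep w) hQc hQd
    (Set.Subset.refl (CohB1.support Q))
  have hsum := Snapper.mixed_eq_zero
    (Snapper.phi_sub_sum_mem k (L := fun _ : Fin 1 => rep w) (fun _ => isInv_rep _) hQ hQd)
  rw [map_sub, sub_eq_zero, map_finsum (mixed 1) hfin, mixed_cokernel_ideal k hdim hJ f] at hsum
  have hpos : (0 : ℚ) < (isect k w (clsMod hJ)⁻¹ : ℚ) := by
    rw [hsum]
    have hnn : ∀ z, 0 ≤ mixed 1 (Snapper.topTerm (phi k 1 fun _ : Fin 1 => rep w) 1 Q z) := fun z => by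
      by_cases hz : IsTop 1 z
      · rw [Snapper.topTerm_of _ hz, map_nsmul]; exact nsmul_nonneg (h z hz).le _
      · simp [Snapper.topTerm, hz]
    refine lt_of_lt_of_le ?_ (single_le_finsum y (hfin.subset fun z hz h0 => hz (by simp only; rw [h0, map_zero])) hnn)
    rw [Snapper.topTerm_of _ hy, map_nsmul]
    refine nsmul_pos (h y hy) fun h0 => ?_
    rw [Snapper.mult, ENat.toNat_eq_zero] at h0
    rcases h0 with h0 | h0
    · exact mem_support_of_not_surjective f hys (Module.length_eq_zero_iff.1 h0)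
    · exact Snapper.length_ne_top k hQ hQd hy h0
  exact_mod_cast hpos

include hdim in
theorem deg_ample_pos' {A : X.Modules} (hA : CohB1.IsAmple A) {y : X} (hy : IsTop 1 y) :
    0 < deg k y (clsMod hA.1) := by
  haveI := Euler.isNoetherian_of_proper (X := X) k
  rw [HodgeIndex.deg_eq_mixed k hA.1]
  exact Snapper.mixed_pos k 1 X A hA (ptMod y) (Snapper.isCoh_ptMod y) (hy.dimLT.mono (Snapper.support_ptMod y))
    ⟨y, Kleiman.mem_support_ptMod k y, hy⟩

include hdim in
/-- An effective class of degree zero is trivial. -/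
theorem eq_one_of_pLe_of_degree_zero {H : X.Modules} (hH : CohB1.IsAmple H) {z : Pic X} (hz : PLe (1 : Pic X) z)
    (h0 : isect k z (clsMod hH.1) = 0) : z = 1 := by
  haveI := Euler.isNoetherian_of_proper (X := X) k
  have hO1 : clsMod (Euler.isInvertible_structure (X := X)) = 1 := (Cube.clsMod_eq_one_iff _).2 ⟨Iso.refl _⟩
  have h1 := hz.mul_right z⁻¹
  rw [one_mul, mul_inv_cancel, ← hO1, ← cls_rep z⁻¹] at h1
  obtain ⟨f, hf⟩ := (Kodaira.pLe_iff _ _).1 h1
  haveI := hf
  have hη := Euler.stalkLin_genericPoint_bijective (isInv_rep z⁻¹) Euler.isInvertible_structure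
    (Kodaira.exists_ne_zero_of_mono (isInv_rep z⁻¹) f)
  have hall : ∀ x : X, Function.Surjective (stalkLin f x) := fun x => by_contra fun hx => by
    obtain ⟨y, hy, -, hys⟩ := exists_curve_not_surjective k hdim (isInv_rep z⁻¹) f hη.2 hx
    have hp := isect_pos_of_curve k hdim (isInv_rep z⁻¹) f hη hy hys (clsMod hH.1)
      fun w hw => deg_ample_pos' k hdim hH hw
    rw [cls_rep, inv_inv, HodgeIndex.isect_comm, h0] at hp
    exact lt_irrefl _ hp
  haveI : IsIso f := (OX.isIso_iff f).2 fun x =>
    (ConcreteCategory.isIso_iff_bijective _).2 ⟨QCoh.stalkLin_injective f x, hall x⟩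
  have h2 := (Cube.clsMod_eq_iff (isInv_rep z⁻¹) (Euler.isInvertible_structure (X := X))).2 ⟨asIso f⟩
  rw [cls_rep, hO1] at h2
  exact inv_eq_one.1 h2

end GrothLib.Goodman
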