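import Groth.Agent.Lib.Goodman.Pole
import Groth.Agent.Lib.HodgeIndex.Deg
import Groth.Agent.Lib.Ref1.Rank
import Groth.Agent.Lib.AffDom.LocalDim
import Groth.Agent.Lib.AffDom.Formula
import Groth.Agent.Lib.AffDom.FibreDim
import Groth.Agent.Lib.AffCompl.Local
import Groth.Agent.Lib.CurveModel.PoleFunction
import Groth.Agent.Lib.BlowUp.UFD

/-!
# Functions on an affine open of a regular surface and their poles along the complementary curves
-/

set_option autoImplicit false
set_option backward.isDefEq.respectTransparency false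
set_option linter.all false

universe u

open CategoryTheory CategoryTheory.Limits AlgebraicGeometry TopologicalSpace Opposite

noncomputable section

namespace GrothLib.Goodman

open GrothLib.Snapper (IsTop DimLT)
open GrothLib.WeakAss (primeAt)

variable {X : Scheme.{u}} [IsIntegral X]

/-- A local ring inside the function field. -/
def pf (x : X) : X.presheaf.stalk x →+* X.functionField := Ref1.spR (Ref1.hη x)

theorem η_mem {U : X.Opens} {x : X} (hx : x ∈ U) : genericPoint X ∈ U := (Ref1.hη x).mem_open U.2 hx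

/-- A function inside the function field. -/
def rf (U : X.Opens) (hU : genericPoint X ∈ U) : Γ(X, U) →+* X.functionField :=
  (X.presheaf.germ U (genericPoint X) hU).hom

theorem pf_germ {U : X.Opens} {x : X} (hx : x ∈ U) (a : Γ(X, U)) :
    pf x (X.presheaf.germ U x hx a) = rf U (η_mem hx) a :=
  Ref1.spR_germ (Ref1.hη x) hx a

theorem rf_res {U V : X.Opens} (h : V ≤ U) (hV : genericPoint X ∈ V) (a : Γ(X, U)) :
    rf V hV (X.presheaf.map (homOfLE h).op a) = rf U (h hV) a :=
  TopCat.Presheaf.germ_res_apply X.presheaf (homOfLE h) _ hV a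

theorem pf_injective (x : X) : Function.Injective (pf x) := Ref1.spR_injective x

theorem frac_pf (x : X) : Frac (pf x) := ⟨pf_injective x, fun c => by
  obtain ⟨a, b, hb, h⟩ := Ref1.exists_spR_div x c
  exact ⟨a, b, hb, h⟩⟩

theorem normal_of_regular (hreg : ∀ x : X, IsRegularLocalRing (X.presheaf.stalk x)) : Pi1.IsNormalScheme X := by
  intro x
  haveI := hreg x
  haveI : UniqueFactorizationMonoid (X.presheaf.stalk x) := RegUFD.ufd_of_isRegularLocalRing _
  exact ⟨inferInstance, inferInstance⟩

variable (k : Type u) [Field k] [X.Over (Spec (CommRingCat.of k))] [IsProper (X ↘ Spec (CommRingCat.of k))]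
  (hdim : topologicalKrullDim X = ((2 : ℕ) : WithBot ℕ∞))

include k in
theorem isSeparated_of_over : X.IsSeparated := by
  have h : terminal.from X = (X ↘ Spec (CommRingCat.of k)) ≫ terminal.from _ := (terminal.comp_from _).symm
  constructor
  rw [h]
  infer_instance

include k hdim in
/-- Points of codimension one have one-dimensional closure. -/
theorem isTop_of_dim_one {z : X} (hz : ringKrullDim (X.presheaf.stalk z) = 1) : IsTop 1 z := by
  obtain ⟨_, ⟨V, hV, rfl⟩, hzV, -⟩ :=
    X.isBasis_affineOpens.exists_subset_of_mem_open (Set.mem_univ z) isOpen_univ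
  have hV : IsAffineOpen V := hV
  rw [BlowUp.ringKrullDim_stalk_eq_height hV hzV] at hz
  obtain ⟨P, rfl⟩ := hV.range_fromSpec.ge hzV
  rw [WeakAss.primeAt_fromSpec hV P hzV] at hz
  obtain ⟨ψ, hψ, -⟩ := GrothLib.Dim.exists_finiteType_specMap (X ↘ Spec (CommRingCat.of k)) hV
  algebraize [ψ.hom]
  have : Algebra.FiniteType k Γ(X, V) := hψ
  haveI : Nonempty (V : Scheme.{u}) := ⟨⟨_, hzV⟩⟩
  haveI : IsDomain Γ(X, V) := inferInstance
  have h1 := AffDom.ringKrullDim_quotient_add_one_of_height_eq_one k Γ(X, V) P.asIdeal (by exact_mod_cast hz)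
  rw [← AffDom.ptDim_fromSpec (X ↘ Spec (CommRingCat.of k)) hV P] at h1
  let o : PrimeSpectrum Γ(X, V) := ⟨⊥, Ideal.isPrime_bot⟩
  have ho : hV.fromSpec o = genericPoint X := by
    obtain ⟨Q, hQ⟩ := hV.range_fromSpec.ge (η_mem hzV)
    have hoQ : hV.fromSpec o ⤳ hV.fromSpec Q :=
      (((PrimeSpectrum.le_iff_specializes o Q).1 bot_le)).map hV.fromSpec.continuous
    rw [hQ] at hoQ
    exact (Specializes.antisymm hoQ (genericPoint_specializes _)).eq
  have h2 : ringKrullDim (Γ(X, V) ⧸ (⊥ : Ideal Γ(X, V))) = ((2 : ℕ) : WithBot ℕ∞) := by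
    rw [← AffDom.ptDim_fromSpec (X ↘ Spec (CommRingCat.of k)) hV o, ho]
    exact Kleiman.isTop_genericPoint hdim
  rw [ringKrullDim_eq_of_ringEquiv (RingEquiv.quotientBot Γ(X, V))] at h2
  rw [h2] at h1
  obtain ⟨e, he⟩ := AffDom.exists_nat_ptDim (K := k) (X ↘ Spec (CommRingCat.of k)) (hV.fromSpec P)
  show topologicalKrullDim _ = _
  rw [show topologicalKrullDim (closure ({hV.fromSpec P} : Set X)) = AffDom.ptDim (hV.fromSpec P) from rfl, he]
  rw [he] at h1
  have h3 : e + 1 = 2 := by exact_mod_cast h1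
  rw [show e = 1 by omega]

include k hdim in
theorem dim_one_of_isTop {z : X} (hz : IsTop 1 z) : ringKrullDim (X.presheaf.stalk z) = 1 :=
  HodgeIndex.ringKrullDim_stalk_eq_one hdim.le hz (HodgeIndex.isTop_ne_genericPoint hdim hz)

include k hdim in
theorem dvr (hX : Pi1.IsNormalScheme X) {z : X} (hz : IsTop 1 z) :
    IsDiscreteValuationRing (X.presheaf.stalk z) :=
  haveI := Euler.isNoetherian_of_proper (X := X) k
  Ref1.isDiscreteValuationRing_of_dim_one hX (dim_one_of_isTop k hdim hz)

include k in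
/-- Some function on an affine open has a pole at a given outside point of codimension one. -/
theorem exists_pole {U : X.Opens} (hU : IsAffineOpen U) (hηU : genericPoint X ∈ U) {z : X} (hzU : z ∉ U) :
    ∃ w : Γ(X, U), Pole (pf z) (rf U hηU w) := by
  by_contra hne
  simp only [Pole, not_exists, not_forall, not_not] at hne
  haveI := isSeparated_of_over (X := X) k
  obtain ⟨_, ⟨V, hV, rfl⟩, hzV, -⟩ :=
    X.isBasis_affineOpens.exists_subset_of_mem_open (Set.mem_univ z) isOpen_univ
  have hV : IsAffineOpen V := hV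
  have hW : IsAffineOpen (U ⊓ V) := hU.inf hV
  have hηV : genericPoint X ∈ V := η_mem hzV
  have hηW : genericPoint X ∈ U ⊓ V := ⟨hηU, hηV⟩
  have hall : ∀ a, rf (U ⊓ V) hηW a ∈ (pf z).range := by
    intro a
    have ha : a ∈ Subring.closure (Set.range (X.presheaf.map (homOfLE (inf_le_left : U ⊓ V ≤ U)).op).hom ∪
        Set.range (X.presheaf.map (homOfLE (inf_le_right : U ⊓ V ≤ V)).op).hom) := by
      rw [CurveModel.closure_res_inf_eq_top (X ↘ Spec (CommRingCat.of k)) hU hV]
      trivial
    refine (Subring.closure_le (t := (pf z).range.comap (rf (U ⊓ V) hηW))).2 ?_ ha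
    rintro _ (⟨b, rfl⟩ | ⟨b, rfl⟩)
    · obtain ⟨c, hc⟩ := hne b
      exact ⟨c, hc.trans (rf_res inf_le_left hηW b).symm⟩
    · exact ⟨X.presheaf.germ V z hzV b, (pf_germ hzV b).trans (rf_res inf_le_right hηW b).symm⟩
  let e : X.presheaf.stalk z ≃+* (pf z).range := RingEquiv.ofBijective (pf z).rangeRestrict
    ⟨fun a b h => pf_injective z (congrArg Subtype.val h), (pf z).rangeRestrict_surjective⟩
  let ψ : Γ(X, U ⊓ V) →+* X.presheaf.stalk z := e.symm.toRingHom.comp ((rf (U ⊓ V) hηW).codRestrict _ hall)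
  have hψ : ∀ a, pf z (ψ a) = rf (U ⊓ V) hηW a := fun a =>
    congrArg Subtype.val (e.apply_symm_apply ⟨rf (U ⊓ V) hηW a, hall a⟩)
  obtain ⟨c, hcW, hc⟩ := AssPts.exists_point hW ((IsLocalRing.maximalIdeal _).comap ψ) inferInstance
  have hcV : primeAt c hcW.2 = primeAt z hzV := by
    ext b
    have h1 : X.presheaf.germ (U ⊓ V) c hcW (X.presheaf.map (homOfLE inf_le_right).op b) =
        X.presheaf.germ V c hcW.2 b := TopCat.Presheaf.germ_res_apply _ _ _ _ _
    have h2 : ψ (X.presheaf.map (homOfLE inf_le_right).op b) = X.presheaf.germ V z hzV b :=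
      pf_injective z ((hψ _).trans ((rf_res inf_le_right hηW b).trans (pf_germ hzV b).symm))
    have h3 : X.presheaf.map (homOfLE (inf_le_right : U ⊓ V ≤ V)).op b ∈ primeAt c hcW ↔
        X.presheaf.map (homOfLE (inf_le_right : U ⊓ V ≤ V)).op b ∈ (IsLocalRing.maximalIdeal _).comap ψ := by
      rw [hc]
    simp only [primeAt, Ideal.mem_comap] at h3 ⊢
    rw [← h1, ← h2]
    exact h3
  exact hzU (AssPts.primeAt_injective hV hcW.2 hzV hcV ▸ hcW.1)

include k hdim in
/-- A function with poles at finitely many outside curves. -/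
theorem exists_pole_all (hX : Pi1.IsNormalScheme X) {U : X.Opens} (hU : IsAffineOpen U)
    (hηU : genericPoint X ∈ U) (T : Finset X) (hT : ∀ z ∈ T, IsTop 1 z ∧ z ∉ U) :
    ∃ w : Γ(X, U), ∀ z ∈ T, Pole (pf z) (rf U hηU w) := by
  classical
  induction T using Finset.induction with
  | empty => exact ⟨0, fun z hz => absurd hz (Finset.notMem_empty z)⟩
  | insert j T hj ih =>
    obtain ⟨w, hw⟩ := ih fun z hz => hT z (Finset.mem_insert_of_mem hz)
    obtain ⟨w', hw'⟩ := exists_pole k hU hηU (hT j (Finset.mem_insert_self j T)).2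
    have key : ∀ z, ∃ N₀ : ℕ, IsTop 1 z → (Pole (pf z) (rf U hηU w) ∨ Pole (pf z) (rf U hηU w')) →
        ∀ N, N₀ ≤ N → Pole (pf z) (rf U hηU w + rf U hηU w' ^ N) := by
      intro z
      by_cases hz : IsTop 1 z
      swap
      · exact ⟨0, fun h => absurd h hz⟩
      haveI := dvr k hdim hX hz
      by_cases h : Pole (pf z) (rf U hηU w')
      · obtain ⟨N₀, h0⟩ := h.add_pow (w := rf U hηU w) (frac_pf z)
        exact ⟨N₀, fun _ _ => h0⟩
      · refine ⟨0, fun _ hp N _ => ?_⟩
        simp only [Pole, not_forall, not_not] at h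
        obtain ⟨c, hc⟩ := h
        rw [← hc, ← map_pow]
        exact (hp.resolve_right fun h' => h' c hc).add_regular _
    choose N₀ hN₀ using key
    refine ⟨w + w' ^ (∑ z ∈ insert j T, N₀ z), fun z hz => ?_⟩
    rw [map_add, map_pow]
    refine hN₀ z (hT z hz).1 ?_ _ (Finset.single_le_sum (f := N₀) (fun _ _ => Nat.zero_le _) hz)
    rcases Finset.mem_insert.1 hz with rfl | hz'
    · exact Or.inr hw'
    · exact Or.inl (hw z hz')

include k hdim in
/-- The curves of the complement of an affine open. -/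
theorem complement_cases {U : X.Opens} (hU : IsAffineOpen U) (hηU : genericPoint X ∈ U) {x : X} (hx : x ∉ U) :
    ∃ z : X, z ∉ U ∧ IsTop 1 z ∧ z ⤳ x := by
  haveI := Euler.isNoetherian_of_proper (X := X) k
  haveI := isSeparated_of_over (X := X) k
  haveI : IsAffine (U : Scheme.{u}) := hU
  haveI : IsAffineHom U.ι :=
    MorphismProperty.of_postcomp (W := @IsAffineHom) (W' := @IsSeparated) U.ι (terminal.from X)
      ‹X.IsSeparated›.1 inferInstance
  have hcl : ∀ y : X, y ∈ closure (U : Set X) := fun y =>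
    closure_mono (Set.singleton_subset_iff.2 (show genericPoint X ∈ (U : Set X) from hηU))
      (by rw [(genericPoint_spec X).def]; trivial)
  by_cases hmax : ∀ y : X, y ∉ U → y ⤳ x → y = x
  · exact ⟨x, hx, isTop_of_dim_one k hdim (AffCompl.ringKrullDim_stalk_eq_one U hx hmax (hcl x)), specializes_rfl⟩
  · simp only [not_forall] at hmax
    obtain ⟨y, hyU, hyx, hne⟩ := hmax
    refine ⟨y, hyU, ?_, hyx⟩
    obtain ⟨e, he⟩ := AffDom.exists_nat_ptDim (K := k) (X ↘ Spec (CommRingCat.of k)) y
    have hle : e ≤ 2 := by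
      have h := AffDom.ptDim_le y
      rw [he, hdim] at h
      exact_mod_cast h
    rcases Nat.lt_or_ge e 1 with h0 | h1
    · exfalso
      have hy0 : AffDom.ptDim y = 0 := by rw [he, show e = 0 by omega]; rfl
      exact hne (by
        have h := (AffDom.isClosed_of_ptDim_eq_zero hy0).closure_eq
        exact (h.le hyx.mem_closure).symm)
    rcases h1.lt_or_eq with h2 | rfl
    · exfalso
      have hy2 : IsTop 2 y := by
        show topologicalKrullDim _ = _
        rw [show topologicalKrullDim (closure ({y} : Set X)) = AffDom.ptDim y from rfl, he, show e = 2 by omega]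
      exact hyU ((hy2.eq_of_specializes (genericPoint_specializes y)
        (Kleiman.isTop_genericPoint hdim).dimLT) ▸ hηU)
    · exact he

include k hdim in
theorem finite_compl_curves {U : X.Opens} (hηU : genericPoint X ∈ U) : {z : X | z ∉ U ∧ IsTop 1 z}.Finite := by
  haveI := Euler.isNoetherian_of_proper (X := X) k
  have hd : DimLT ((U : Set X)ᶜ) 2 :=
    Snapper.dimLT_of_notMem (Kleiman.isTop_genericPoint hdim).dimLT
      (by rw [(genericPoint_spec X).def]; exact Set.subset_univ _) fun h => h hηU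
  refine Snapper.finite_of_maximal U.2.isClosed_compl (fun z hz => hz.1) fun x hx y hy hyx =>
    hx.2.eq_of_specializes hyx (hd.mono (U.2.isClosed_compl.closure_subset_iff.2 (Set.singleton_subset_iff.2 hy)))

end GrothLib.Goodman
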