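import Groth.Agent.Lib.Goodman.Degree
import Groth.Agent.Lib.Goodman.Divisor
import Groth.Agent.Lib.Nakai.Criterion
import Groth.Agent.Lib.Euler.AmpleIff

/-!
# Regular proper surfaces are projective (Zariski, Goodman)
-/

set_option autoImplicit false
set_option backward.isDefEq.respectTransparency false
set_option linter.all false

universe u

open CategoryTheory CategoryTheory.Limits AlgebraicGeometry TopologicalSpace Opposite

noncomputable section

namespace GrothLib.Goodman

open GrothLib.Euler (tF)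
open GrothLib.Cube (Pic clsMod)
open GrothLib.HodgeIndex (rep isInv_rep cls_rep deg isect)
open GrothLib.Snapper (IsTop DimLT mixed phi ptMod)
open GrothLib.WeakAss (primeAt)
open GrothLib.QCoh (stalkLin)

/-- An affine proper integral scheme is a point. -/
theorem not_isAffine_of_not_isClosed {X : Scheme.{u}} [IsIntegral X] (k : Type u) [Field k]
    (q : X ⟶ Spec (CommRingCat.of k)) [IsProper q] (h : ¬ IsClosed ({genericPoint X} : Set X)) : ¬ IsAffine X := by
  intro hA
  haveI : IsAffineHom q := isAffineHom_of_isAffine q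
  haveI : IsFinite q := IsFinite.iff_isProper_and_isAffineHom.2 ⟨inferInstance, inferInstance⟩
  have hd : _root_.IsDiscrete (q ⁻¹' {q (genericPoint X)}) := q.isDiscrete_preimage_singleton _
  have hall : q ⁻¹' {q (genericPoint X)} = Set.univ :=
    Set.eq_univ_of_forall fun y => Subsingleton.elim (α := PrimeSpectrum k) _ _
  rw [hall, isDiscrete_univ_iff] at hd
  exact h (isClosed_discrete _)

theorem not_isClosed_of_isTop {X : Scheme.{u}} {y : X} {d : ℕ} (hd : 0 < d) (hy : IsTop d y) :
    ¬ IsClosed ({y} : Set X) := by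
  intro hc
  have h : topologicalKrullDim (closure ({y} : Set X)) = (d : WithBot ℕ∞) := hy
  rw [hc.closure_eq] at h
  have h0 : topologicalKrullDim ({y} : Set X) ≤ 0 := topologicalKrullDim_zero_of_discreteTopology _
  rw [h] at h0
  have : (d : WithBot ℕ∞) ≤ ((0 : ℕ) : WithBot ℕ∞) := by exact_mod_cast h0
  exact absurd (Nat.cast_le.1 this) (by omega)

variable {X : Scheme.{u}} [IsIntegral X]
variable (k : Type u) [Field k] [X.Over (Spec (CommRingCat.of k))] [IsProper (X ↘ Spec (CommRingCat.of k))]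
  (hdim : topologicalKrullDim X = ((2 : ℕ) : WithBot ℕ∞))

include k hdim in
theorem ne_top_of_isAffineOpen {U : X.Opens} (hU : IsAffineOpen U) : ∃ x : X, x ∉ U := by
  by_contra h
  push Not at h
  obtain rfl : U = ⊤ := top_le_iff.1 fun x _ => h x
  haveI : IsAffine ((⊤ : X.Opens) : Scheme.{u}) := hU
  exact not_isAffine_of_not_isClosed k (X ↘ Spec (CommRingCat.of k))
    (not_isClosed_of_isTop two_pos (Kleiman.isTop_genericPoint hdim)) (.of_isIso (Scheme.topIso X).inv)

include k in
/-- An affine open contains no complete curve. -/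
theorem exists_specializes_notMem {U : X.Opens} (hU : IsAffineOpen U) {y : X} (hy : IsTop 1 y) :
    ∃ x : X, y ⤳ x ∧ x ∉ U := by
  by_contra h
  push Not at h
  haveI := isSeparated_of_over (X := X) k
  haveI : IsAffine (U : Scheme.{u}) := hU
  let ι := (HodgeIndex.curveIdeal y).subschemeι
  haveI : IsIntegral (HodgeIndex.curveIdeal y).subscheme := Snapper.isIntegral_pt y
  have htop : ι ⁻¹ᵁ U = ⊤ := top_le_iff.1 fun z _ => h _ (specializes_iff_mem_closure.2
    ((Snapper.range_pt y).le (Set.mem_range_self z)))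
  have hA : IsAffineOpen (⊤ : (HodgeIndex.curveIdeal y).subscheme.Opens) := htop ▸ hU.preimage ι
  haveI : IsAffine ((⊤ : (HodgeIndex.curveIdeal y).subscheme.Opens) : Scheme.{u}) := hA
  refine not_isAffine_of_not_isClosed k (ι ≫ X ↘ Spec (CommRingCat.of k)) (fun hc => ?_)
    (.of_isIso (Scheme.topIso _).inv)
  refine not_isClosed_of_isTop one_pos hy ?_
  have hη : ι (genericPoint (HodgeIndex.curveIdeal y).subscheme) = y := by
    have h := QCoh.closure_singleton_eq_range ι
    rw [Snapper.range_pt y] at h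
    exact Inseparable.eq (inseparable_iff_closure_eq.2 h)
  have := ι.isClosedEmbedding.isClosedMap _ hc
  rwa [Set.image_singleton, hη] at this

theorem mem_support_of_not_surjective {M N : X.Modules} (f : M ⟶ N) {x : X}
    (hx : ¬ Function.Surjective (stalkLin f x)) : x ∈ CohB1.support (cokernel f) :=
  Classical.not_not.1 fun h => hx (surjective_of_notMem f h)

include k in
theorem not_surjective_of_specializes {M N : X.Modules} (hM : Coh.IsCoh M) (hN : Coh.IsCoh N) (f : M ⟶ N) {c x : X}
    (h : c ⤳ x) (hc : ¬ Function.Surjective (stalkLin f c)) : ¬ Function.Surjective (stalkLin f x) := fun hs => by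
  haveI := Euler.isNoetherian_of_proper (X := X) k
  exact QCoh.notMem_support_cokernel_of_surjective f hs
    ((QCoh.isClosed_support_of_isCoh (QCoh.isCoh_cokernel f hM hN)).closure_subset_iff.2
      (Set.singleton_subset_iff.2 (mem_support_of_not_surjective f hc)) h.mem_closure)

include hdim in
/-- The pairing with an effective class through the cokernel of its ideal. -/
theorem mixed_cokernel_ideal {J : X.Modules} (hJ : PicF.IsInvertible J) (f : J ⟶ Coh.structureModule X) [Mono f]
    (x : Pic X) :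
    mixed 1 (phi k 1 (fun _ => rep x) (cokernel f)) = (isect k x (clsMod hJ)⁻¹ : ℚ) := by
  haveI := Euler.isNoetherian_of_proper (X := X) k
  have hO : Coh.IsCoh (Coh.structureModule X) := Kleiman.isCoh_O k
  have hJc : Coh.IsCoh J := Euler.isCoh_of_isInvertible hJ
  let S : ShortComplex X.Modules := ShortComplex.mk f (cokernel.π f) (cokernel.condition f)
  have hS : S.ShortExact :=
    haveI : Mono S.f := ‹Mono f›
    haveI : Epi S.g := inferInstanceAs (Epi (cokernel.π f))
    { exact := ShortComplex.exact_of_g_is_cokernel _ (cokernelIsCokernel _) }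
  have hadd := Snapper.phi_additive k (r := 1) (L := fun _ => rep x) (fun _ => isInv_rep x) hS hJc hO
    (QCoh.isCoh_cokernel f hJc hO)
  simp only [S] at hadd
  have hQ : phi k 1 (fun _ => rep x) (cokernel f) =
      phi k 1 (fun _ => rep x) (Coh.structureModule X) - phi k 1 (fun _ => rep x) J := by rw [hadd]; simp
  have hOv : ∀ n : Fin 1 → ℕ, phi k 1 (fun _ => rep x) (Coh.structureModule X) n =
      (HodgeIndex.chi k (x ^ n 0) : ℚ) := fun n => by
    rw [HodgeIndex.phi_eq_chi k (fun _ => x), Fin.prod_univ_one]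
  have hJv : ∀ n : Fin 1 → ℕ, phi k 1 (fun _ => rep x) J n = (HodgeIndex.chi k (clsMod hJ * x ^ n 0) : ℚ) := fun n => by
    have hP := Snapper.isInvertible_invPows 1 (fun _ => rep x) (fun _ => isInv_rep x) n
    refine congrArg Int.cast ((HodgeIndex.euler_eq_chi k (Ample.isInvertible_tensorMod hJ hP)).trans ?_)
    rw [Cube.clsMod_tensorMod hJ hP, Kleiman.cls_invPows 1 (fun _ => rep x) (fun _ => isInv_rep x) n,
      Fin.prod_univ_one, cls_rep]
  rw [hQ, map_sub, HodgeIndex.mixed_one,
    HodgeIndex.mixed_one, hOv, hOv, hJv, hJv]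
  have e := HodgeIndex.isect_inv_right k hdim.le x (clsMod hJ)
  rw [e]
  simp [isect, mul_comm x]
  ring

include hdim in
/-- An effective class positive on every curve has positive square. -/
theorem sq_pos {J : X.Modules} (hJ : PicF.IsInvertible J) (f : J ⟶ Coh.structureModule X)
    (hf : Function.Bijective (stalkLin f (genericPoint X))) {y : X} (hy : IsTop 1 y)
    (hys : ¬ Function.Surjective (stalkLin f y)) (h : ∀ z, IsTop 1 z → 0 < deg k z (clsMod hJ)⁻¹) :
    0 < isect k (clsMod hJ)⁻¹ (clsMod hJ)⁻¹ := by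
  haveI := Euler.isNoetherian_of_proper (X := X) k
  have hO : Coh.IsCoh (Coh.structureModule X) := Kleiman.isCoh_O k
  have hJc : Coh.IsCoh J := Euler.isCoh_of_isInvertible hJ
  haveI : Mono f := Euler.mono_of_ne_zero hJ Euler.isInvertible_structure fun h0 => by
    obtain ⟨v, hv⟩ := hf.2 (HomSh.unitStalk (genericPoint X) 1)
    rw [h0] at hv
    have : stalkLin (0 : J ⟶ Coh.structureModule X) (genericPoint X) v = 0 := by
      simp [stalkLin]
      rfl
    rw [this] at hv
    exact one_ne_zero ((HomSh.unitStalk (genericPoint X)).map_eq_zero_iff.1 hv.symm)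
  let Q := cokernel f
  have hQ : Coh.IsCoh Q := QCoh.isCoh_cokernel f hJc hO
  have hQd : DimLT (CohB1.support Q) (1 + 1) :=
    (Snapper.dimLT_of_notMem (Kleiman.isTop_genericPoint hdim).dimLT
      (T := closure {genericPoint X} ∩ CohB1.support Q) Set.inter_subset_left
      fun hm => QCoh.notMem_support_cokernel_of_surjective f hf.2 hm.2).mono fun x hx =>
        ⟨by rw [show closure ({genericPoint X} : Set X) = Set.univ from (genericPoint_spec X).def]; trivial, hx⟩
  have hQc := QCoh.isClosed_support_of_isCoh hQ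
  have hfin := Snapper.finite_support_topTerm (phi k 1 fun _ : Fin 1 => rep (clsMod hJ)⁻¹) hQc hQd
    (Set.Subset.refl (CohB1.support Q))
  have hsum := Snapper.mixed_eq_zero
    (Snapper.phi_sub_sum_mem k (L := fun _ : Fin 1 => rep (clsMod hJ)⁻¹) (fun _ => isInv_rep _) hQ hQd)
  rw [map_sub, sub_eq_zero, map_finsum (mixed 1) hfin, mixed_cokernel_ideal k hdim hJ f] at hsum
  have hpos : (0 : ℚ) < (isect k (clsMod hJ)⁻¹ (clsMod hJ)⁻¹ : ℚ) := by
    rw [hsum]
    have hnn : ∀ z, 0 ≤ mixed 1 (Snapper.topTerm (phi k 1 fun _ : Fin 1 => rep (clsMod hJ)⁻¹) 1 Q z) := fun z => by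
      by_cases hz : IsTop 1 z
      · rw [Snapper.topTerm_of _ hz, map_nsmul]; exact nsmul_nonneg (h z hz).le _
      · simp [Snapper.topTerm, hz]
    refine lt_of_lt_of_le ?_ (single_le_finsum y (hfin.subset fun z hz h0 => hz (by simp only; rw [h0, map_zero])) hnn)
    rw [Snapper.topTerm_of _ hy, map_nsmul]
    refine nsmul_pos (h y hy) fun h0 => ?_
    rw [Snapper.mult, ENat.toNat_eq_zero] at h0
    rcases h0 with h0 | h0
    · exact mem_support_of_not_surjective f hys (Module.length_eq_zero_iff.1 h0)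
    · exact Snapper.length_ne_top k hQ hQd hy h0
  exact_mod_cast hpos

include hdim in
/-- Nakai–Moishezon for the classes constructed here. -/
theorem isAmple_of_sq_pos {z : Pic X} (h1 : ∀ y, IsTop 1 y → 0 < deg k y z) (h2 : 0 < isect k z z) :
    CohB1.IsAmple (rep z) := by
  haveI := Euler.isNoetherian_of_proper (X := X) k
  refine Nakai.isAmple_of_pos k (isInv_rep z) fun x d hd hx => ?_
  have hd2 : d ≤ 2 := by
    have h : topologicalKrullDim (closure ({x} : Set X)) ≤ topologicalKrullDim X :=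
      (Topology.IsInducing.subtypeVal).topologicalKrullDim_le
    rw [show topologicalKrullDim (closure ({x} : Set X)) = (d : WithBot ℕ∞) from hx, hdim] at h
    exact_mod_cast h
  rcases (show d = 1 ∨ d = 2 by omega) with rfl | rfl
  · exact h1 x hx
  · obtain rfl : x = genericPoint X :=
      (hx.eq_of_specializes (genericPoint_specializes x) (Kleiman.isTop_genericPoint hdim).dimLT).symm
    have hO : Coh.IsCoh (Coh.structureModule X) := Kleiman.isCoh_O k
    have hdO := HodgeIndex.support_structure_dimLT k hdim.le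
    have hLL : 0 < mixed 2 (phi k 2 (fun _ => rep z) (Coh.structureModule X)) := by
      rw [HodgeIndex.mixed_rep_const k hdim.le]
      exact_mod_cast h2
    have hfin := Snapper.finite_support_topTerm (phi k 2 (fun _ : Fin 2 => rep z)) (QCoh.isClosed_support_of_isCoh hO) hdO
      (Set.Subset.refl (CohB1.support (Coh.structureModule X)))
    have h := Snapper.mixed_eq_zero
      (Snapper.phi_sub_sum_mem k (L := fun _ : Fin 2 => rep z) (fun _ => isInv_rep z) hO hdO)
    rw [finsum_eq_single _ (genericPoint X) fun y hy => Snapper.topTerm_eq_zero _ fun hyt _ => hy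
      (hyt.eq_of_specializes (genericPoint_specializes _) (Kleiman.isTop_genericPoint hdim).dimLT).symm,
      Snapper.topTerm_of _ (Kleiman.isTop_genericPoint hdim), map_sub, map_nsmul, sub_eq_zero, nsmul_eq_mul] at h
    rw [h] at hLL
    exact pos_of_mul_pos_right hLL (Nat.cast_nonneg _)

include k in
/-- Through a point of a finite set of curves passes a further curve. -/
theorem exists_curve_through (hreg : ∀ x : X, IsRegularLocalRing (X.presheaf.stalk x)) {x : X}
    (hx : IsClosed ({x} : Set X)) (hxη : x ≠ genericPoint X) (T : Finset X) (hT : ∀ z ∈ T, ¬ IsClosed ({z} : Set X)) :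
    ∃ c : X, c ⤳ x ∧ ringKrullDim (X.presheaf.stalk c) = 1 ∧ c ∉ T := by
  classical
  haveI := Euler.isNoetherian_of_proper (X := X) k
  haveI := hreg x
  haveI : IsDomain (X.presheaf.stalk x) := (normal_of_regular hreg x).1
  haveI : IsNoetherianRing (X.presheaf.stalk x) := inferInstance
  let T' := insert (genericPoint X) T
  let P : X → Ideal (X.presheaf.stalk x) := fun z =>
    if h : z ⤳ x then (IsLocalRing.maximalIdeal (X.presheaf.stalk z)).comap (Ref1.spR h) else ⊥
  have hsel : ¬ ∀ a ∈ IsLocalRing.maximalIdeal (X.presheaf.stalk x), a ∈ ⋃ z ∈ (T' : Set X), (P z : Set _) := by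
    intro h
    obtain ⟨z, hzT, hz⟩ := (Ideal.subset_union_prime (genericPoint X) (genericPoint X) (fun z hz _ _ => by
      simp only [P]
      split
      · exact Ideal.comap_isPrime _ _
      · exact Ideal.isPrime_bot)).1 h
    have hzne : z ≠ x := fun he => by
      rcases Finset.mem_insert.1 hzT with h' | h'
      · exact hxη (he ▸ h')
      · exact hT z h' (he ▸ hx)
    obtain ⟨_, ⟨V, hV, rfl⟩, hxV, -⟩ :=
      X.isBasis_affineOpens.exists_subset_of_mem_open (Set.mem_univ x) isOpen_univ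
    simp only [P] at hz
    split at hz
    · rename_i hzx
      have hzV : z ∈ V := hzx.mem_open V.2 hxV
      refine hzne (AssPts.primeAt_injective hV hzV hxV (le_antisymm ?_ fun b hb => ?_))
      · intro b hb
        simp only [primeAt, Ideal.mem_comap] at hb ⊢
        intro hu
        refine hb ?_
        have := hu.map (Ref1.spR hzx)
        rwa [Ref1.spR_germ hzx hxV b] at this
      · have := hz hb
        simp only [primeAt, Ideal.mem_comap] at this ⊢
        rwa [Ref1.spR_germ hzx hxV b] at this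
    · have hm : IsLocalRing.maximalIdeal (X.presheaf.stalk x) = ⊥ := le_bot_iff.1 hz
      refine hxη ?_
      have := ringKrullDim_eq_zero_of_isField (IsLocalRing.isField_iff_maximalIdeal_eq.2 hm)
      have this := (ringKrullDim_stalk_eq_coheight (X := X) x).symm.trans this
      have h1 : x ⤳ genericPoint X := Order.coheight_eq_zero.1 (WithBot.coe_injective this) (Ref1.hη x)
      exact (Specializes.antisymm h1 (Ref1.hη x)).eq
  push Not at hsel
  obtain ⟨a, ham, ha⟩ := hsel
  simp only [Set.mem_iUnion, not_exists] at ha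
  have ha0 : a ≠ 0 := fun h0 => ha (genericPoint X) (Finset.mem_coe.2 (Finset.mem_insert_self _ _))
    (h0 ▸ (P (genericPoint X)).zero_mem)
  obtain ⟨p, hp, hpm⟩ := Ideal.exists_minimalPrimes_le
    ((Ideal.span_singleton_le_iff_mem _).2 ham : Ideal.span {a} ≤ IsLocalRing.maximalIdeal (X.presheaf.stalk x))
  haveI : p.IsPrime := hp.1.1
  have hap : a ∈ p := (Ideal.span_singleton_le_iff_mem _).1 hp.1.2
  have hp1 : p.height = 1 := by
    refine le_antisymm (Ideal.height_le_one_of_isPrincipal_of_mem_minimalPrimes (Ideal.span {a}) p hp) ?_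
    rw [Order.one_le_iff_ne_zero, Ne, Ideal.height_eq_zero_iff_eq_bot]
    exact fun hb => ha0 (by rw [hb] at hap; exact hap)
  obtain ⟨c, hcx, hc, hcu⟩ := Ref1.exists_point_of_prime x p
  refine ⟨c, hcx, by rw [hc, hp1]; rfl, fun hcT => ?_⟩
  refine ha c (Finset.mem_coe.2 (Finset.mem_insert_of_mem hcT)) ?_
  simp only [P, dif_pos hcx]
  exact fun hu => (hcu a).1 hu hap

include k hdim in
/-- **Goodman's theorem**: the complement of an affine open of a regular proper surface supports an ample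
effective divisor. -/
theorem exists_effCartier_support_compl (hreg : ∀ x : X, IsRegularLocalRing (X.presheaf.stalk x))
    {U : X.Opens} (hU : IsAffineOpen U) (hηU : genericPoint X ∈ U) :
    ∃ (I : X.IdealSheafData) (_ : _root_.BlowUp.IsEffCartierIdeal I) (hI : PicF.IsInvertible (ClSub.idealMod I)),
      (I.support : Set X) = (U : Set X)ᶜ ∧ CohB1.IsAmple (rep (clsMod hI)⁻¹) := by
  classical
  haveI := Euler.isNoetherian_of_proper (X := X) k
  have hO : Coh.IsCoh (Coh.structureModule X) := Kleiman.isCoh_O k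
  have hX := normal_of_regular hreg
  have hufd : ∀ x : X, UniqueFactorizationMonoid (X.presheaf.stalk x) := fun x => by
    haveI := hreg x
    exact RegUFD.ufd_of_isRegularLocalRing _
  obtain ⟨x₀, hx₀⟩ := ne_top_of_isAffineOpen k hdim hU
  obtain ⟨z₀, hz₀U, hz₀, -⟩ := complement_cases k hdim hU hηU hx₀
  let Ts := (finite_compl_curves k hdim hηU).toFinset
  have hTs : ∀ z, z ∈ Ts ↔ z ∉ U ∧ IsTop 1 z := fun z => (finite_compl_curves k hdim hηU).mem_toFinset
  -- closed points and further curves through them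
  have hcurve : ∀ z ∈ Ts, ∃ (x c : X), z ⤳ x ∧ c ⤳ x ∧ ∃ hc : c ∈ U, IsTop 1 c := by
    intro z hz
    obtain ⟨x, hxz, hx⟩ := isClosed_closure.exists_closed_singleton (S := closure ({z} : Set X)) ⟨z, subset_closure rfl⟩
    have hzx : z ⤳ x := specializes_iff_mem_closure.2 hxz
    have hxη : x ≠ genericPoint X := fun h =>
      not_isClosed_of_isTop two_pos (Kleiman.isTop_genericPoint hdim) (h ▸ hx)
    obtain ⟨c, hcx, hc, hcT⟩ := exists_curve_through k hreg hx hxη Ts fun y hy =>
      not_isClosed_of_isTop one_pos ((hTs y).1 hy).2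
    have hct := isTop_of_dim_one k hdim hc
    exact ⟨x, c, hzx, hcx, Classical.not_not.1 fun h => hcT ((hTs c).2 ⟨h, hct⟩), hct⟩
  choose xz cz hzx hcx hczU hcz using hcurve
  haveI : Nonempty (U : Scheme.{u}) := ⟨⟨_, hηU⟩⟩
  haveI : IsDomain Γ(X, U) := inferInstance
  have hpr : ∀ z : {z // z ∈ Ts}, ∃ b : Γ(X, U), b ≠ 0 ∧ b ∈ primeAt (cz z.1 z.2) (hczU z.1 z.2) := by
    intro z
    have hne : primeAt (cz z.1 z.2) (hczU z.1 z.2) ≠ ⊥ := fun hb => by
      have h1 : primeAt (genericPoint X) hηU ≤ ⊥ := fun b hb' => by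
        rw [Ideal.mem_bot]
        refine germ_injective_of_isIntegral X (genericPoint X) hηU ?_
        rw [map_zero]
        by_contra h0
        exact hb' (IsUnit.mk0 (G₀ := X.functionField) _ h0)
      exact HodgeIndex.isTop_ne_genericPoint hdim (hcz z.1 z.2)
        (AssPts.primeAt_injective hU (hczU z.1 z.2) hηU (hb.trans (le_bot_iff.1 h1).symm))
    obtain ⟨b, hb, hb0⟩ := Submodule.exists_mem_ne_zero_of_ne_bot hne
    exact ⟨b, hb0, hb⟩
  choose b hb0 hbm using hpr
  obtain ⟨u₀, hu₀⟩ : ∃ u₀, u₀ = ∏ z : {z // z ∈ Ts}, b z := ⟨_, rfl⟩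
  have hu₀0 : rf U hηU u₀ ≠ 0 := by
    refine (map_ne_zero_iff _ (germ_injective_of_isIntegral X (genericPoint X) hηU)).2 ?_
    rw [hu₀]
    exact Finset.prod_ne_zero_iff.2 fun z _ => hb0 z
  obtain ⟨w, hw⟩ := exists_pole_all k hdim hX hU hηU Ts fun z hz => ⟨((hTs z).1 hz).2, ((hTs z).1 hz).1⟩
  have hN : ∀ z : {z // z ∈ Ts}, ∃ N₀ : ℕ, ∀ N, N₀ ≤ N → Pole (pf z.1) (rf U hηU u₀ * rf U hηU w ^ N) := fun z => by
    haveI := dvr k hdim hX ((hTs z.1).1 z.2).2
    exact (hw z.1 z.2).eventually (frac_pf z.1) hu₀0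
  choose N₀ hN₀ using hN
  obtain ⟨uU, huU⟩ : ∃ uU, uU = u₀ * w ^ (∑ z, N₀ z) := ⟨_, rfl⟩
  have hpole : ∀ z ∈ Ts, Pole (pf z) (rf U hηU uU) := fun z hz => by
    rw [huU, map_mul, map_pow]
    exact hN₀ ⟨z, hz⟩ _ (Finset.single_le_sum (f := N₀) (fun _ _ => Nat.zero_le _) (Finset.mem_univ _))
  have hz₀T : z₀ ∈ Ts := (hTs z₀).2 ⟨hz₀U, hz₀⟩
  have hu : rf U hηU uU ≠ 0 := fun h => hpole z₀ hz₀T 0 (by rw [map_zero, h])
  have hzero : ∀ z (hz : z ∈ Ts), X.presheaf.germ U _ (hczU z hz) uU ∈
      IsLocalRing.maximalIdeal (X.presheaf.stalk (cz z hz)) := fun z hz => by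
    have h : uU ∈ primeAt (cz z hz) (hczU z hz) := by
      rw [huU, hu₀]
      refine Ideal.mul_mem_right _ _ ?_
      rw [← Finset.mul_prod_erase Finset.univ b (Finset.mem_univ ⟨z, hz⟩)]
      exact Ideal.mul_mem_right _ _ (hbm ⟨z, hz⟩)
    exact h
  -- the exponents
  have hexp : ∀ z : X, ∃ a : ℕ, (a ≠ 0 ↔ z ∈ Ts) ∧ (z ∈ Ts → ∀ ϖ : X.presheaf.stalk z, Irreducible ϖ →
      ∃ c, IsUnit c ∧ pf z c = rf U hηU uU * pf z (ϖ ^ a)) := by
    intro z
    by_cases hz : z ∈ Ts
    · haveI := dvr k hdim hX ((hTs z).1 hz).2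
      obtain ⟨ϖ, hϖ⟩ := IsDiscreteValuationRing.exists_irreducible (X.presheaf.stalk z)
      obtain ⟨a, c, ha, hac⟩ := (hpole z hz).exists_unit (frac_pf z) hϖ
      refine ⟨a, by simp [hz, ha.ne'], fun _ ϖ' hϖ' => ?_⟩
      obtain ⟨v, hv⟩ := IsDiscreteValuationRing.associated_of_irreducible _ hϖ hϖ'
      refine ⟨c * (v : X.presheaf.stalk z) ^ a, c.isUnit.mul (v.isUnit.pow a), ?_⟩
      rw [← hv, mul_pow, map_mul, map_mul, ← mul_assoc, hac]
    · exact ⟨0, by simp [hz], fun h => absurd h hz⟩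
  choose n hn0 hn using hexp
  have hTcl : ∀ z ∈ Ts, _root_.BlowUp.IsEffCartierIdeal
      (Scheme.IdealSheafData.vanishingIdeal (⟨closure ({z} : Set X), isClosed_closure⟩ : Closeds X)) := fun z hz => by
    haveI : IsIntegral (HodgeIndex.curveIdeal z).subscheme := Snapper.isIntegral_pt z
    refine HodgeIndex.isEffCartier_curve hdim hreg (HodgeIndex.curveIdeal z) (HodgeIndex.isTop_of_curve k ?_)
    rw [← (HodgeIndex.curveIdeal z).range_subschemeι, Snapper.range_pt z]
    exact ((hTs z).1 hz).2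
  obtain ⟨I, hIc, hIs, hst⟩ := exists_divisor Ts n hn0
    (fun z hz => dim_one_of_isTop k hdim ((hTs z).1 hz).2) hTcl
  have hJ : PicF.IsInvertible (ClSub.idealMod I) := IdealModSec.isInvertible_of_isEffCartier hIc
  have hηI : genericPoint X ∉ (I.support : Set X) := by
    rw [hIs]
    intro hm
    obtain ⟨z, hz, hzm⟩ := Set.mem_iUnion₂.1 hm
    exact ((hTs z).1 hz).1 ((specializes_iff_mem_closure.2 hzm).mem_open U.2 hηU)
  have hιη := HodgeIndex.stalk_bijective_idealModι I hηI
  have h₁ : ∀ x : X, ringKrullDim (X.presheaf.stalk x) = 1 → ∀ v,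
      ∃ a ∈ IsLocalRing.maximalIdeal (X.presheaf.stalk x) ^ n x,
        stalkLin (ClSub.idealModι I) x v = HomSh.unitStalk x a := fun x hx v =>
    ⟨OmegaBC.sval I x v, hst x hx ▸ LinearMap.mem_range_self _ v, stalkLin_idealModι I x v⟩
  have h₂ : ∀ x : X, ringKrullDim (X.presheaf.stalk x) = 1 → ∀ a ∈ IsLocalRing.maximalIdeal (X.presheaf.stalk x) ^ n x,
      ∃ v, stalkLin (ClSub.idealModι I) x v = HomSh.unitStalk x a := fun x hx a ha => by
    rw [← hst x hx] at ha
    obtain ⟨v, rfl⟩ := ha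
    exact ⟨v, stalkLin_idealModι I x v⟩
  have hout : ∀ x : X, ringKrullDim (X.presheaf.stalk x) = 1 → x ∉ Ts → x ∈ U := fun x hx hxT =>
    Classical.not_not.1 fun h => hxT ((hTs x).2 ⟨h, isTop_of_dim_one k hdim hx⟩)
  obtain ⟨ψu, hψu⟩ := exists_hom_rational hX (ClSub.idealModι I) hιη n h₁ h₂ (rf U hηU uU) hu fun x hx a ha => by
    by_cases hxT : x ∈ Ts
    · haveI := dvr k hdim hX ((hTs x).1 hxT).2
      obtain ⟨ϖ, hϖ⟩ := IsDiscreteValuationRing.exists_irreducible (X.presheaf.stalk x)
      rw [hϖ.maximalIdeal_eq, Ideal.span_singleton_pow, Ideal.mem_span_singleton'] at ha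
      obtain ⟨d, rfl⟩ := ha
      obtain ⟨c, -, hc⟩ := hn x hxT ϖ hϖ
      exact ⟨d * c, by rw [map_mul, hc, map_mul]; ring⟩
    · exact ⟨X.presheaf.germ U x (hout x hx hxT) uU * a, by rw [map_mul, pf_germ]⟩
  have hJc : Coh.IsCoh (ClSub.idealMod I) := Euler.isCoh_of_isInvertible hJ
  have hns : ∀ z ∈ Ts, ¬ Function.Surjective (stalkLin (ClSub.idealModι I) z) := fun z hz hs => by
    have hdz := dim_one_of_isTop k hdim ((hTs z).1 hz).2
    obtain ⟨v, hv⟩ := hs (HomSh.unitStalk z 1)
    obtain ⟨a, ha, hva⟩ := h₁ z hdz v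
    rw [hva, (HomSh.unitStalk z).injective.eq_iff] at hv
    subst hv
    exact (IsLocalRing.maximalIdeal (X.presheaf.stalk z)).ne_top_iff_one.1 (IsLocalRing.maximalIdeal.isMaximal _).ne_top
      (Ideal.pow_le_self ((hn0 z).2 hz) ha)
  have hdeg : ∀ y, IsTop 1 y → 0 < deg k y (clsMod hJ)⁻¹ := by
    intro y hy
    have hdy := dim_one_of_isTop k hdim hy
    haveI := dvr k hdim hX hy
    obtain ⟨ϖ, hϖ⟩ := IsDiscreteValuationRing.exists_irreducible (X.presheaf.stalk y)
    by_cases hyT : y ∈ Ts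
    · obtain ⟨c, hcu, hc⟩ := hn y hyT ϖ hϖ
      refine (deg_inv_of_hom k hJ ψu hy (QCoh.notMem_support_cokernel_of_surjective ψu
        ((hψu y hdy ϖ hϖ c hc).2 hcu))).2 ⟨xz y hyT, hzx y hyT, ?_⟩
      refine not_surjective_of_specializes k hJc hO ψu (hcx y hyT) fun hs => ?_
      have hdc := dim_one_of_isTop k hdim (hcz y hyT)
      haveI := dvr k hdim hX (hcz y hyT)
      obtain ⟨ϖ', hϖ'⟩ := IsDiscreteValuationRing.exists_irreducible (X.presheaf.stalk (cz y hyT))
      have hnc : n (cz y hyT) = 0 := Classical.not_not.1 fun h => ((hTs _).1 ((hn0 _).1 h)).1 (hczU y hyT)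
      exact hzero y hyT ((hψu _ hdc ϖ' hϖ' _ (by rw [hnc, pow_zero, map_one, mul_one, pf_germ])).1 hs)
    · have hny : n y = 0 := Classical.not_not.1 fun h => hyT ((hn0 y).1 h)
      obtain ⟨x, hyx, hxU⟩ := exists_specializes_notMem k hU hy
      obtain ⟨z, hzU, hz, hzx'⟩ := complement_cases k hdim hU hηU hxU
      refine (deg_inv_of_hom k hJ (ClSub.idealModι I) hy
        (QCoh.notMem_support_cokernel_of_surjective (ClSub.idealModι I) fun w => ?_)).2 ⟨x, hyx, ?_⟩
      · obtain ⟨a, rfl⟩ := (HomSh.unitStalk y).surjective w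
        exact h₂ y hdy a (by rw [hny, pow_zero, Ideal.one_eq_top]; trivial)
      · exact not_surjective_of_specializes k hJc hO (ClSub.idealModι I) hzx' (hns z ((hTs z).2 ⟨hzU, hz⟩))
  refine ⟨I, hIc, hJ, ?_, isAmple_of_sq_pos k hdim hdeg
    (sq_pos k hdim hJ (ClSub.idealModι I) hιη hz₀ (hns z₀ hz₀T) hdeg)⟩
  rw [hIs]
  refine Set.eq_of_subset_of_subset (Set.iUnion₂_subset fun z hz => ?_) fun x hx => ?_
  · exact U.2.isClosed_compl.closure_subset_iff.2 (Set.singleton_subset_iff.2 ((hTs z).1 hz).1)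
  · obtain ⟨z, hzU, hz, hzx⟩ := complement_cases k hdim hU hηU hx
    exact Set.mem_iUnion₂.2 ⟨z, (hTs z).2 ⟨hzU, hz⟩, hzx.mem_closure⟩

include k hdim in
/-- A regular proper surface carries an ample invertible module. -/
theorem exists_ample_of_regular_surface (hreg : ∀ x : X, IsRegularLocalRing (X.presheaf.stalk x)) :
    ∃ A : X.Modules, CohB1.IsAmple A := by
  obtain ⟨_, ⟨U, hU, rfl⟩, hηU, -⟩ :=
    X.isBasis_affineOpens.exists_subset_of_mem_open (Set.mem_univ (genericPoint X)) isOpen_univ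
  obtain ⟨I, -, hI, -, hA⟩ := exists_effCartier_support_compl k hdim hreg hU hηU
  exact ⟨_, hA⟩

include k hdim in
/-- A smooth proper surface is projective. -/
theorem exists_ample_of_smooth_surface [Smooth (X ↘ Spec (CommRingCat.of k))] :
    ∃ A : X.Modules, CohB1.IsAmple A :=
  exists_ample_of_regular_surface k hdim (HodgeIndex.regular_of_smooth k)

end GrothLib.Goodman
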