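import Groth.Agent.Lib.HodgeIndex.Deg
import Groth.Agent.Lib.TensorGen.Basic
import Groth.Agent.Lib.Euler.Divisor
import Groth.Agent.Lib.OX.PullbackTensor
import Groth.Agent.Lib.HomSh.Criterion

/-!
# Degrees of invertible ideals on curves
-/

set_option autoImplicit false
set_option backward.isDefEq.respectTransparency false
set_option linter.all false

universe u

open CategoryTheory CategoryTheory.Limits MonoidalCategory AlgebraicGeometry TopologicalSpace Opposite

noncomputable section

namespace GrothLib.Goodman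

open GrothLib.Euler (tF)
open GrothLib.Cube (Pic clsMod)
open GrothLib.HodgeIndex (rep isInv_rep cls_rep deg)
open GrothLib.Snapper (IsTop DimLT mixed phi ptMod)
open GrothLib.QCoh (stalkLin)

variable {X : Scheme.{u}}

/-- A tensor map on products of germs. -/
theorem stalkLin_tensor_tmul (F : X.Modules) {G G' : X.Modules} (φ : G ⟶ G') (x : X)
    (v : F.presheaf.stalk x) (w : G.presheaf.stalk x) :
    stalkLin (((DCoh.tensorBi (X := X)).obj F).map φ) x (Ref1.tmulStalk F G x v w) =
      Ref1.tmulStalk F G' x v (stalkLin φ x w) := by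
  obtain ⟨U₁, h₁, m, rfl⟩ := TopCat.Presheaf.exists_germ_eq F.presheaf v
  obtain ⟨U₂, h₂, n, rfl⟩ := TopCat.Presheaf.exists_germ_eq G.presheaf w
  rw [← TopCat.Presheaf.germ_res_apply F.presheaf (homOfLE (inf_le_left : U₁ ⊓ U₂ ≤ U₁)) x ⟨h₁, h₂⟩ m,
    ← TopCat.Presheaf.germ_res_apply G.presheaf (homOfLE (inf_le_right : U₁ ⊓ U₂ ≤ U₂)) x ⟨h₁, h₂⟩ n,
    ← Ref1.germ_tmul]
  have hL := fun m' n' => (QCoh.stalkLin_germ (((DCoh.tensorBi (X := X)).obj F).map φ)
    (show x ∈ U₁ ⊓ U₂ from ⟨h₁, h₂⟩) (SecTwist.tmul F G (U₁ ⊓ U₂) m' n'))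
  refine (hL _ _).trans ?_
  rw [QCoh.stalkLin_germ, ← Ref1.germ_tmul]
  refine congrArg (fun s => (CohB1.tensorMod F G').presheaf.germ (U₁ ⊓ U₂) x ⟨h₁, h₂⟩ s) ?_
  have h := OX.tmulSec_natural (𝟙 F) φ (U₁ ⊓ U₂)
    (F.presheaf.map (homOfLE (inf_le_left : U₁ ⊓ U₂ ≤ U₁)).op m)
    (G.presheaf.map (homOfLE (inf_le_right : U₁ ⊓ U₂ ≤ U₂)).op n)
  rw [CategoryTheory.Functor.map_id, MonoidalCategory.id_tensorHom] at h
  exact h

/-- Off the support of the cokernel a map is surjective on stalks. -/
theorem surjective_of_notMem {M N : X.Modules} (f : M ⟶ N) {x : X} (hx : x ∉ CohB1.support (cokernel f)) :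
    Function.Surjective (stalkLin f x) := fun w => by
  let S₀ : ShortComplex X.Modules := ShortComplex.mk f (cokernel.π f) (cokernel.condition f)
  have hS₀ : S₀.Exact := ShortComplex.exact_of_g_is_cokernel _ (cokernelIsCokernel _)
  haveI : Subsingleton ((cokernel f).presheaf.stalk x) := QCoh.stalk_subsingleton_of_notMem hx
  have he := (ShortComplex.ShortExact.moduleCat_exact_iff_function_exact _).1 ((OX.exact_iff S₀).1 hS₀ x)
  exact (he w).1 (Subsingleton.elim (α := (cokernel f).presheaf.stalk x) _ _)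

variable (k : Type u) [Field k] [X.Over (Spec (CommRingCat.of k))] [IsProper (X ↘ Spec (CommRingCat.of k))]

include k in
/-- A coherent module with finite non-empty support has positive Euler characteristic. -/
theorem euler_pos_of_finite_support {F : X.Modules} (hF : Coh.IsCoh F) (hfin : (CohB1.support F).Finite)
    (hcl : ∀ x ∈ CohB1.support F, IsClosed ({x} : Set X)) (hne : (CohB1.support F).Nonempty) :
    0 < Curv2.euler k X F := by
  rw [Euler.euler_eq_of_finite_support k F hfin hcl]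
  haveI := Euler.finiteDimensional_HH k hF 0
  obtain ⟨x, hx⟩ := hne
  haveI : Nontrivial Γ(F, ⊤) := by
    by_contra h
    rw [not_nontrivial_iff_subsingleton] at h
    refine hx ⟨fun v w => ?_⟩
    classical
    obtain ⟨S, hS⟩ := (Euler.bijective_germs F hfin hcl).2 fun p => if e : x = (p : X) then e ▸ v else 0
    obtain ⟨S', hS'⟩ := (Euler.bijective_germs F hfin hcl).2 fun p => if e : x = (p : X) then e ▸ w else 0
    rw [Subsingleton.elim S S'] at hS
    have h2 := congrFun (hS.symm.trans hS') ⟨x, hx⟩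
    simpa using h2
  haveI : Nontrivial (Coh.HH X F 0) := (ProjCoh.H0top F).toEquiv.nontrivial
  exact_mod_cast Module.finrank_pos (R := k) (M := Coh.HH X F 0)

/-- The degree is additive. -/
theorem deg_mul {y : X} (hy : IsTop 1 y) (a b : Pic X) : deg k y (a * b) = deg k y a + deg k y b := by
  haveI := Euler.isNoetherian_of_proper (X := X) k
  have hv : ∀ j, PicF.IsInvertible (![rep a, rep b] j) := Kleiman.inv_two (isInv_rep a) (isInv_rep b)
  have h := Snapper.mixed_eq_zero (Snapper.phi_mem_polyLT k hv 2 (ptMod y) (Snapper.isCoh_ptMod y)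
    (hy.dimLT.mono (Snapper.support_ptMod y)))
  rw [HodgeIndex.mixed_two] at h
  have hc : ∀ (z : Pic X) (n : ℕ) (i j : ℕ), z ^ n = a ^ i * b ^ j →
      phi k 1 (fun _ => rep z) (ptMod y) (fun _ => n) = phi k 2 ![rep a, rep b] (ptMod y) ![i, j] := by
    intro z n i j e
    refine Kleiman.phi_eq_of_cls k (fun _ => isInv_rep z) hv _ ?_
    simp [Fin.prod_univ_two, cls_rep, e]
  unfold deg
  rw [HodgeIndex.mixed_one, HodgeIndex.mixed_one, HodgeIndex.mixed_one, hc (a * b) 1 1 1 (by simp),
    hc (a * b) 0 0 0 (by simp), hc a 1 1 0 (by simp), hc a 0 0 0 (by simp), hc b 1 0 1 (by simp),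
    hc b 0 0 0 (by simp)]
  linarith

theorem deg_one {y : X} (hy : IsTop 1 y) : deg k y 1 = 0 := by
  have h := deg_mul k hy 1 1
  rw [mul_one] at h
  linarith

theorem deg_inv {y : X} (hy : IsTop 1 y) (a : Pic X) : deg k y a⁻¹ = - deg k y a := by
  have h := deg_mul k hy a a⁻¹
  rw [mul_inv_cancel, deg_one k hy] at h
  linarith

/-- An invertible module mapping to `O`, bijectively at the generic point of a curve, has non-positive degree on
it, negative if the map is not surjective at some point of the curve. -/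
theorem deg_inv_of_hom {I : X.Modules} (hI : PicF.IsInvertible I) (φ : I ⟶ Coh.structureModule X) {y : X}
    (hy : IsTop 1 y) (hb : y ∉ CohB1.support (cokernel φ)) :
    0 ≤ deg k y (clsMod hI)⁻¹ ∧
      ((∃ x, y ⤳ x ∧ ¬ Function.Surjective (stalkLin φ x)) → 0 < deg k y (clsMod hI)⁻¹) := by
  haveI := Euler.isNoetherian_of_proper (X := X) k
  have hO : Coh.IsCoh (Coh.structureModule X) := Kleiman.isCoh_O k
  haveI : IsIntegral (HodgeIndex.curveIdeal y).subscheme := Snapper.isIntegral_pt y
  let g := ((DCoh.tensorBi (X := X)).obj (ptMod y)).map φ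
  have hF := Snapper.isCoh_ptMod y
  have hFy : QCoh.TorsFreeAt (ptMod y) y := by
    have h := QCoh.pushUnit_torsFreeAt (HodgeIndex.curveIdeal y).subschemeι
    have hη : (HodgeIndex.curveIdeal y).subschemeι (genericPoint (HodgeIndex.curveIdeal y).subscheme) = y := by
      have h' := QCoh.closure_singleton_eq_range (HodgeIndex.curveIdeal y).subschemeι
      rw [Snapper.range_pt y] at h'
      exact Inseparable.eq (inseparable_iff_closure_eq.2 h')
    rw [hη] at h
    exact h
  have hFclo : closure ({y} : Set X) ⊆ CohB1.support (ptMod y) :=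
    (QCoh.isClosed_support_of_isCoh hF).closure_subset_iff.2 (Set.singleton_subset_iff.2 (Kleiman.mem_support_ptMod k y))
  -- the product with a local generator
  have hgen : ∀ x : X, ∃ (t : I.presheaf.stalk x) (a : X.presheaf.stalk x), Ref1.Gen I x t ∧
      stalkLin φ x t = a • HomSh.unitStalk x 1 ∧ (IsUnit a ↔ Function.Surjective (stalkLin φ x)) := by
    intro x
    obtain ⟨W, e, hxW, he⟩ : ∃ (W : X.Opens) (e : Γ(I, W)), x ∈ W ∧ InvExt.IsGen I W e := by
      obtain ⟨W, e, hxW, he⟩ := InvExt.exists_gen_nhd hI x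
      exact ⟨W, e, hxW, he⟩
    have ht := Ref1.gen_of_isGen he hxW
    obtain ⟨a, ha⟩ := (HomSh.unitStalk x).surjective (stalkLin φ x (I.presheaf.germ W x hxW e))
    have ha' : stalkLin φ x (I.presheaf.germ W x hxW e) = a • HomSh.unitStalk x 1 := by
      rw [← map_smul, smul_eq_mul, mul_one, ha]
    refine ⟨_, a, ht, ha', ⟨fun hu w => ?_, fun hs => ?_⟩⟩
    · obtain ⟨c, rfl⟩ := (HomSh.unitStalk x).surjective w
      refine ⟨(c * ((hu.unit⁻¹ : _ˣ) : X.presheaf.stalk x)) • I.presheaf.germ W x hxW e, ?_⟩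
      rw [map_smul, ha', ← map_smul, ← map_smul, smul_eq_mul, smul_eq_mul, mul_one, mul_assoc,
        IsUnit.val_inv_mul, mul_one]
    · obtain ⟨v, hv⟩ := hs (HomSh.unitStalk x 1)
      obtain ⟨b, rfl⟩ := ht.2 v
      simp only [map_smul, ha'] at hv
      rw [← map_smul, ← map_smul, smul_eq_mul, smul_eq_mul, mul_one] at hv
      exact IsUnit.of_mul_eq_one_right b ((HomSh.unitStalk x).injective hv)
  have ho : ∀ x : X, Ref1.Gen (Coh.structureModule X) x (HomSh.unitStalk x 1) := fun x => by
    have h : (fun a : X.presheaf.stalk x => a • HomSh.unitStalk x (1 : X.presheaf.stalk x)) =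
        ⇑(HomSh.unitStalk x) := funext fun a => by rw [← map_smul, smul_eq_mul, mul_one]
    show Function.Bijective _
    rw [h]
    exact (HomSh.unitStalk x).bijective
  -- surjectivity of the product
  have hsurj : ∀ x : X, Function.Surjective (stalkLin φ x) → Function.Bijective (stalkLin g x) := by
    intro x hx
    obtain ⟨t, a, ht, hat, hau⟩ := hgen x
    have hu := hau.2 hx
    have hfun : (fun v => stalkLin g x (Ref1.tmulStalk (ptMod y) I x v t)) =
        (fun v => Ref1.tmulStalk (ptMod y) (Coh.structureModule X) x v (HomSh.unitStalk x 1)) ∘ fun v => a • v := by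
      funext v
      show stalkLin g x _ = Ref1.tmulStalk _ _ x (a • v) _
      rw [stalkLin_tensor_tmul, hat, map_smul, LinearMap.map_smul₂]
    have h1 : Function.Bijective fun v : (ptMod y).presheaf.stalk x => a • v := hu.smul_bijective
    have h2 := (TensorGen.bijective_tmulStalk (ptMod y) _ (ho x)).comp h1
    rw [← hfun] at h2
    exact (Function.Bijective.of_comp_iff _ (TensorGen.bijective_tmulStalk (ptMod y) I ht)).1 h2
  let V : X.Opens := ⟨(CohB1.support (cokernel φ))ᶜ,
    (QCoh.isClosed_support_of_isCoh (QCoh.isCoh_cokernel φ (Euler.isCoh_of_isInvertible hI) hO)).isOpen_compl⟩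
  have hV : ∀ x ∈ V, Function.Surjective (stalkLin φ x) := fun x hx => surjective_of_notMem φ hx
  haveI hmono : Mono g :=
    Kodaira.mono_of_stalk_injective g (Kodaira.torsFreeAt_tensor hI hFy) (hsurj y (hV y hb)).1
  let S : ShortComplex X.Modules := ShortComplex.mk g (cokernel.π g) (cokernel.condition g)
  have hS : S.ShortExact :=
    haveI : Mono S.f := hmono
    haveI : Epi S.g := inferInstanceAs (Epi (cokernel.π g))
    { exact := ShortComplex.exact_of_g_is_cokernel _ (cokernelIsCokernel _) }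
  have h₁ : Coh.IsCoh S.X₁ := Euler.isCoh_tF hF (Euler.isFinLocFree_of_isInvertible hI)
  have h₂ : Coh.IsCoh S.X₂ := Euler.isCoh_tF hF (Euler.isFinLocFree_of_isInvertible Euler.isInvertible_structure)
  have h₃ : Coh.IsCoh S.X₃ := QCoh.isCoh_cokernel g h₁ h₂
  have hsupp : CohB1.support S.X₃ ⊆ closure ({y} : Set X) ∩ (V : Set X)ᶜ := fun x hx => by
    refine ⟨Snapper.support_ptMod y ((Euler.support_tF_subset
      (Euler.isFinLocFreeOfRank_one' Euler.isInvertible_structure)) (QCoh.support_subset_of_epi (cokernel.π g) hx)),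
      fun hxV => QCoh.notMem_support_cokernel_of_surjective g (hsurj x (hV x hxV)).2 hx⟩
  have hd : DimLT (CohB1.support S.X₃) 1 :=
    (Snapper.dimLT_of_notMem hy.dimLT (T := closure ({y} : Set X) ∩ (V : Set X)ᶜ) Set.inter_subset_left
      fun h => h.2 hb).mono hsupp
  have hcl := QCoh.isClosed_support_of_isCoh h₃
  have h0 : topologicalKrullDim (CohB1.support S.X₃) ≤ 0 := by exact_mod_cast Snapper.dim_le_of_dimLT hcl hd
  have hp := fun x hx => Euler.isClosed_singleton_of_dim_le_zero hcl h0 (x := x) hx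
  have hfin := Euler.finite_of_closed_points hcl hp
  have key : deg k y (clsMod hI)⁻¹ = (Curv2.euler k X S.X₃ : ℚ) := by
    have e1 := HodgeIndex.euler_sub_eq_mixed k hI (ptMod y)
    rw [← HodgeIndex.deg_eq_mixed k hI] at e1
    have e2 := Euler.euler_additive k hS h₁ h₂ h₃
    have e3 : Curv2.euler k X S.X₂ = Curv2.euler k X (ptMod y) := Euler.euler_of_iso k (Euler.tFUnitIso (ptMod y))
    have e4 : Curv2.euler k X S.X₁ = Curv2.euler k X (CohB1.tensorMod (ptMod y) I) := rfl
    rw [deg_inv k hy, ← e1, ← e4, ← e3, e2]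
    push_cast
    ring
  refine ⟨?_, ?_⟩
  · rw [key]
    haveI := h₃.1
    rw [Euler.euler_eq_of_finite_support k S.X₃ hfin hp]
    positivity
  rintro ⟨x, hyx, hx⟩
  rw [key]
  suffices hne : x ∈ CohB1.support S.X₃ by exact_mod_cast euler_pos_of_finite_support k h₃ hfin hp ⟨x, hne⟩
  by_contra hnot
  have hgs : Function.Surjective (stalkLin g x) := surjective_of_notMem g hnot
  obtain ⟨t, a, ht, hat, hau⟩ := hgen x
  have ham : a ∈ IsLocalRing.maximalIdeal (X.presheaf.stalk x) := fun hu => hx (hau.1 hu)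
  haveI : Epi (ClSub.toSubscheme (HodgeIndex.curveIdeal y)) := Euler.epi_toSubscheme _
  have hπ : Function.Surjective (stalkLin (ClSub.toSubscheme (HodgeIndex.curveIdeal y)) x) :=
    QCoh.stalkLin_surjective _ x
  obtain ⟨v0, hv0⟩ : ∃ v0 : (ptMod y).presheaf.stalk x,
      v0 = stalkLin (ClSub.toSubscheme (HodgeIndex.curveIdeal y)) x (HomSh.unitStalk x 1) := ⟨_, rfl⟩
  obtain ⟨w, hw⟩ := hgs (Ref1.tmulStalk (ptMod y) _ x v0 (HomSh.unitStalk x 1))
  obtain ⟨v, rfl⟩ := (TensorGen.bijective_tmulStalk (ptMod y) I ht).2 w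
  dsimp only at hw
  rw [stalkLin_tensor_tmul, hat, map_smul, ← LinearMap.map_smul₂] at hw
  have hv := (TensorGen.bijective_tmulStalk (ptMod y) _ (ho x)).1 hw
  obtain ⟨z, rfl⟩ := hπ v
  obtain ⟨b, rfl⟩ := (HomSh.unitStalk x).surjective z
  have hbv : stalkLin (ClSub.toSubscheme (HodgeIndex.curveIdeal y)) x (HomSh.unitStalk x b) = b • v0 := by
    rw [hv0, ← map_smul, ← map_smul, smul_eq_mul, mul_one]
  rw [hbv, smul_smul] at hv
  have hunit : IsUnit (1 - a * b) := IsLocalRing.isUnit_one_sub_self_of_mem_nonunits _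
    (Ideal.mul_mem_right b _ ham)
  have h0 : v0 = 0 := by
    refine hunit.smul_left_cancel.1 ?_
    rw [sub_smul, one_smul, hv, sub_self, smul_zero]
  refine (not_subsingleton_iff_nontrivial.1 (hFclo hyx.mem_closure)).exists_pair_ne.elim fun p hp' => ?_
  obtain ⟨q, hpq⟩ := hp'
  refine hpq ?_
  obtain ⟨z, rfl⟩ := hπ p
  obtain ⟨z', rfl⟩ := hπ q
  obtain ⟨c, rfl⟩ := (HomSh.unitStalk x).surjective z
  obtain ⟨c', rfl⟩ := (HomSh.unitStalk x).surjective z'
  have hc : ∀ c, stalkLin (ClSub.toSubscheme (HodgeIndex.curveIdeal y)) x (HomSh.unitStalk x c) = 0 := fun c => by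
    rw [← mul_one c, ← smul_eq_mul, map_smul, map_smul, ← hv0, h0, smul_zero]
  rw [hc, hc]

end GrothLib.Goodman
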