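import Mathlib.RingTheory.DiscreteValuationRing.Basic
import Mathlib.Tactic

/-!
# Poles of elements of the fraction field of a discrete valuation ring
-/

set_option autoImplicit false
set_option linter.all false

universe u v

namespace GrothLib.Goodman

open IsLocalRing (maximalIdeal)

variable {R : Type u} [CommRing R] {K : Type v} [Field K] (f : R →+* K)

/-- An element outside the image. -/
def Pole (x : K) : Prop := ∀ a : R, f a ≠ x

/-- The data of a discrete valuation ring inside its field of fractions. -/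
structure Frac : Prop where
  inj : Function.Injective f
  surj : ∀ x : K, ∃ a b : R, b ≠ 0 ∧ f b * x = f a

variable {f} [IsDomain R] [IsDiscreteValuationRing R]

theorem pow_mul_mem (hf : Frac f) (x : K) {r : R} (hr : r ∈ maximalIdeal R) :
    ∃ N₀ : ℕ, ∀ N, N₀ ≤ N → ∃ a ∈ maximalIdeal R, f a = x * f (r ^ N) := by
  obtain ⟨p, q, hq, hx⟩ := hf.surj x
  obtain ⟨ϖ, hϖ⟩ := IsDiscreteValuationRing.exists_irreducible R
  obtain ⟨j, c, rfl⟩ := IsDiscreteValuationRing.eq_unit_mul_pow_irreducible hq hϖ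
  rw [Irreducible.maximalIdeal_eq hϖ] at hr ⊢
  obtain ⟨s, rfl⟩ := Ideal.mem_span_singleton.1 hr
  refine ⟨j + 1, fun N hN => ⟨((c⁻¹ : Rˣ) : R) * p * ϖ ^ (N - j) * s ^ N, ?_, ?_⟩⟩
  · refine Ideal.mem_span_singleton.2 (Dvd.dvd.mul_right (Dvd.dvd.mul_left (dvd_pow_self ϖ (by omega)) _) _)
  · have h0 : f ((c : R) * ϖ ^ j) ≠ 0 := (map_ne_zero_iff f hf.inj).2 hq
    refine mul_left_cancel₀ h0 ?_
    rw [← mul_assoc _ x, hx, ← map_mul, ← map_mul]
    refine congrArg f ?_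
    calc (c : R) * ϖ ^ j * (((c⁻¹ : Rˣ) : R) * p * ϖ ^ (N - j) * s ^ N)
        = ((c : R) * ((c⁻¹ : Rˣ) : R)) * p * (ϖ ^ j * ϖ ^ (N - j)) * s ^ N := by ring
      _ = p * (ϖ * s) ^ N := by
          rw [Units.mul_inv, ← pow_add, show j + (N - j) = N by omega, mul_pow, one_mul]
          ring

theorem Pole.ne_zero {x : K} (h : Pole f x) : x ≠ 0 := fun hx => h 0 (by rw [map_zero, hx])

/-- A pole times a power of the uniformiser is a unit. -/
theorem Pole.exists_unit (hf : Frac f) {x : K} (h : Pole f x) {ϖ : R} (hϖ : Irreducible ϖ) :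
    ∃ (a : ℕ) (c : Rˣ), 0 < a ∧ x * f (ϖ ^ a) = f c := by
  obtain ⟨p, q, hq, hx⟩ := hf.surj x
  have hp : p ≠ 0 := by
    rintro rfl
    rw [map_zero, mul_eq_zero] at hx
    exact h.ne_zero (hx.resolve_left ((map_ne_zero_iff f hf.inj).2 hq))
  obtain ⟨i, c₁, rfl⟩ := IsDiscreteValuationRing.eq_unit_mul_pow_irreducible hp hϖ
  obtain ⟨j, c₂, rfl⟩ := IsDiscreteValuationRing.eq_unit_mul_pow_irreducible hq hϖ
  have hij : i < j := by
    by_contra hle
    push Not at hle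
    refine h (((c₂⁻¹ * c₁ : Rˣ) : R) * ϖ ^ (i - j)) (mul_left_cancel₀ ((map_ne_zero_iff f hf.inj).2 hq) ?_)
    rw [hx, ← map_mul]
    refine congrArg f ?_
    calc (c₂ : R) * ϖ ^ j * (((c₂⁻¹ * c₁ : Rˣ) : R) * ϖ ^ (i - j))
        = ((c₂ : R) * ((c₂⁻¹ : Rˣ) : R)) * c₁ * (ϖ ^ j * ϖ ^ (i - j)) := by rw [Units.val_mul]; ring
      _ = c₁ * ϖ ^ i := by rw [Units.mul_inv, ← pow_add, show j + (i - j) = i by omega, one_mul]
  refine ⟨j - i, c₂⁻¹ * c₁, by omega, mul_left_cancel₀ ((map_ne_zero_iff f hf.inj).2 hq) ?_⟩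
  rw [← mul_assoc, hx, ← map_mul, ← map_mul]
  refine congrArg f ?_
  calc (c₁ : R) * ϖ ^ i * ϖ ^ (j - i) = c₁ * ϖ ^ j := by rw [mul_assoc, ← pow_add, show i + (j - i) = j by omega]
    _ = ((c₂ : R) * ((c₂⁻¹ : Rˣ) : R)) * c₁ * ϖ ^ j := by rw [Units.mul_inv, one_mul]
    _ = (c₂ : R) * ϖ ^ j * ((c₂⁻¹ * c₁ : Rˣ) : R) := by rw [Units.val_mul]; ring

theorem Pole.exists_inv (hf : Frac f) {x : K} (h : Pole f x) :
    ∃ r ∈ maximalIdeal R, x * f r = 1 := by
  obtain ⟨ϖ, hϖ⟩ := IsDiscreteValuationRing.exists_irreducible R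
  obtain ⟨a, c, ha, he⟩ := h.exists_unit hf hϖ
  refine ⟨ϖ ^ a * ((c⁻¹ : Rˣ) : R), Ideal.mul_mem_right _ _ ?_, ?_⟩
  · rw [Irreducible.maximalIdeal_eq hϖ]
    exact Ideal.mem_span_singleton.2 (dvd_pow_self ϖ ha.ne')
  · rw [map_mul, ← mul_assoc, he, ← map_mul, Units.mul_inv, map_one]

/-- A high power of a pole absorbs any given element. -/
theorem Pole.eventually (hf : Frac f) {w : K} (h : Pole f w) {x : K} (hx : x ≠ 0) :
    ∃ N₀ : ℕ, ∀ N, N₀ ≤ N → Pole f (x * w ^ N) := by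
  obtain ⟨r, hr, hwr⟩ := h.exists_inv hf
  obtain ⟨N₀, hN⟩ := pow_mul_mem hf x⁻¹ hr
  refine ⟨N₀, fun N hNN b hb => ?_⟩
  obtain ⟨a, ha, hfa⟩ := hN N hNN
  have h1 : f (b * a) = 1 := by
    rw [map_mul, hb, hfa, map_pow]
    calc x * w ^ N * (x⁻¹ * f r ^ N) = (x * x⁻¹) * (w * f r) ^ N := by ring
      _ = 1 := by rw [hwr, one_pow, mul_one, mul_inv_cancel₀ hx]
  have h2 : b * a = 1 := hf.inj (h1.trans (map_one f).symm)
  exact (IsLocalRing.maximalIdeal R).ne_top_iff_one.1 (IsLocalRing.maximalIdeal.isMaximal R).ne_top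
    (h2 ▸ Ideal.mul_mem_left _ b ha)

theorem Pole.pow (hf : Frac f) {w : K} (h : Pole f w) {N : ℕ} (hN : 0 < N) : Pole f (w ^ N) := by
  obtain ⟨r, hr, hwr⟩ := h.exists_inv hf
  intro b hb
  have h1 : f (b * r ^ N) = 1 := by rw [map_mul, hb, map_pow, ← mul_pow, hwr, one_pow]
  have h2 : b * r ^ N = 1 := hf.inj (h1.trans (map_one f).symm)
  have h3 : r ^ N ∈ maximalIdeal R := Ideal.pow_mem_of_mem _ hr N hN
  exact (IsLocalRing.maximalIdeal R).ne_top_iff_one.1 (IsLocalRing.maximalIdeal.isMaximal R).ne_top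
    (h2 ▸ Ideal.mul_mem_left _ b h3)

/-- Adding a high power of a pole gives a pole. -/
theorem Pole.add_pow (hf : Frac f) {w w' : K} (h' : Pole f w') :
    ∃ N₀ : ℕ, ∀ N, N₀ ≤ N → Pole f (w + w' ^ N) := by
  by_cases h : Pole f w
  · obtain ⟨r, hr, hwr⟩ := h'.exists_inv hf
    obtain ⟨N₀, hN⟩ := pow_mul_mem hf w hr
    refine ⟨N₀ + 1, fun N hNN b hb => ?_⟩
    obtain ⟨a, ha, hfa⟩ := hN N (by omega)
    have h1 : f (b * r ^ N - a) = 1 := by
      rw [map_sub, map_mul, hb, hfa, add_mul, map_pow, ← mul_pow w', hwr, one_pow]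
      ring
    have h2 : b * r ^ N - a = 1 := hf.inj (h1.trans (map_one f).symm)
    exact (IsLocalRing.maximalIdeal R).ne_top_iff_one.1 (IsLocalRing.maximalIdeal.isMaximal R).ne_top
      (h2 ▸ Ideal.sub_mem _ (Ideal.mul_mem_left _ b (Ideal.pow_mem_of_mem _ hr N (by omega))) ha)
  · simp only [Pole, not_forall, not_not] at h
    obtain ⟨c, hc⟩ := h
    exact ⟨1, fun N hN b hb => h'.pow hf hN (b - c) (by rw [map_sub, hb, hc]; ring)⟩

/-- A pole stays a pole after adding something regular. -/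
theorem Pole.add_regular {w : K} (h : Pole f w) (c : R) : Pole f (w + f c) := fun b hb =>
  h (b - c) (by rw [map_sub, hb]; ring)

end GrothLib.Goodman
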